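import Groth.Agent.Divis.IdealComap
import Groth.Agent.FormalB.ModPowAff
import Mathlib.AlgebraicGeometry.Morphisms.Proper
import Mathlib.RingTheory.LocalRing.ResidueField.Basic

/-!
# The closed fibre of a scheme over a local ring

* `ideal_ker_fst`: the ideal sheaf of the closed fibre is `m O_X`;
* `exists_mem_closedFibre`: a nonempty closed subset of a proper scheme over a local ring meets the closed fibre;
* `eq_top_of_closedFibre`: an open subset containing the closed fibre is everything.
-/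

set_option autoImplicit false
universe u

open CategoryTheory CategoryTheory.Limits AlgebraicGeometry TopologicalSpace Opposite

namespace K695.ClFib

open Groth.Agent.FormalB.ModPowAff

variable (A : Type u) [CommRing A] [IsLocalRing A] {X : Scheme.{u}} (f : X ⟶ Spec (CommRingCat.of A))

/-- The closed fibre as a closed subscheme. -/
noncomputable abbrev ι₀ : pullback f (Spec.map (CommRingCat.ofHom (IsLocalRing.residue A))) ⟶ X :=
  pullback.fst f (Spec.map (CommRingCat.ofHom (IsLocalRing.residue A)))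

instance : IsClosedImmersion (Spec.map (CommRingCat.ofHom (IsLocalRing.residue A))) :=
  IsClosedImmersion.spec_of_surjective _ IsLocalRing.residue_surjective

/-- The ideal sheaf of the closed fibre. -/
noncomputable abbrev ideal₀ : X.IdealSheafData := (ι₀ A f).ker

theorem ker_specMap_ideal {B C : Type u} [CommRing B] [CommRing C] (φ : B →+* C) :
    (Spec.map (CommRingCat.ofHom φ)).ker.ideal ⟨⊤, isAffineOpen_top _⟩ =
      (RingHom.ker φ).map (Scheme.ΓSpecIso (CommRingCat.of B)).inv.hom := by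
  rw [Scheme.Hom.ker_apply]
  have h : ∀ b : Γ(Spec (CommRingCat.of B), ⊤), (Spec.map (CommRingCat.ofHom φ)).appTop b =
      (Scheme.ΓSpecIso (CommRingCat.of C)).inv (φ ((Scheme.ΓSpecIso (CommRingCat.of B)).hom b)) := by
    intro b
    have h1 := Scheme.ΓSpecIso_inv_naturality (CommRingCat.ofHom φ)
    have h2 := congr(($h1) ((Scheme.ΓSpecIso (CommRingCat.of B)).hom b))
    have h3 : (Scheme.ΓSpecIso (CommRingCat.of B)).inv ((Scheme.ΓSpecIso (CommRingCat.of B)).hom b) = b :=
      congr($((Scheme.ΓSpecIso (CommRingCat.of B)).hom_inv_id) b)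
    refine Eq.trans ?_ h2.symm
    change _ = (Spec.map (CommRingCat.ofHom φ)).appTop
      ((Scheme.ΓSpecIso (CommRingCat.of B)).inv ((Scheme.ΓSpecIso (CommRingCat.of B)).hom b))
    rw [h3]
  apply le_antisymm
  · intro b hb
    have hb' : (Spec.map (CommRingCat.ofHom φ)).appTop b = 0 := hb
    rw [h] at hb'
    have hinj : Function.Injective (Scheme.ΓSpecIso (CommRingCat.of C)).inv :=
      (ConcreteCategory.bijective_of_isIso (Scheme.ΓSpecIso (CommRingCat.of C)).inv).1
    have h1 : φ ((Scheme.ΓSpecIso (CommRingCat.of B)).hom b) = 0 := hinj (by rw [hb', map_zero])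
    have h2 : (Scheme.ΓSpecIso (CommRingCat.of B)).inv ((Scheme.ΓSpecIso (CommRingCat.of B)).hom b) = b :=
      congr($((Scheme.ΓSpecIso (CommRingCat.of B)).hom_inv_id) b)
    rw [← h2]
    exact Ideal.mem_map_of_mem _ (RingHom.mem_ker.2 h1)
  · rw [Ideal.map_le_iff_le_comap]
    intro b hb
    change (Spec.map (CommRingCat.ofHom φ)).appTop ((Scheme.ΓSpecIso (CommRingCat.of B)).inv b) = 0
    rw [h]
    have h2 : (Scheme.ΓSpecIso (CommRingCat.of B)).hom ((Scheme.ΓSpecIso (CommRingCat.of B)).inv b) = b :=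
      congr($((Scheme.ΓSpecIso (CommRingCat.of B)).inv_hom_id) b)
    rw [h2, RingHom.mem_ker.1 hb, map_zero]

theorem ideal_ideal₀ (U : X.affineOpens) :
    let _ : X.Over (Spec (CommRingCat.of A)) := ⟨f⟩
    (ideal₀ A f).ideal U = (IsLocalRing.maximalIdeal A).map (toΓ A X U.1) := by
  let _ : X.Over (Spec (CommRingCat.of A)) := ⟨f⟩
  rw [ideal₀, ι₀, Scheme.IdealSheafData.ker_fst_of_isClosedImmersion,
    Groth.Agent.Divis.IdealComap.ideal_comap _ f ⟨⊤, isAffineOpen_top _⟩ U (fun _ _ => trivial),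
    ker_specMap_ideal, Ideal.map_map, IsLocalRing.ker_residue]
  rfl

theorem range_ι₀ : Set.range (ι₀ A f) = f ⁻¹' {IsLocalRing.closedPoint A} := by
  rw [ι₀, Scheme.Pullback.range_fst]
  congr 1
  ext y
  constructor
  · rintro ⟨z, rfl⟩
    exact IsLocalRing.PrimeSpectrum.comap_residue A z
  · rintro rfl
    exact ⟨(⊥ : PrimeSpectrum (IsLocalRing.ResidueField A)), IsLocalRing.PrimeSpectrum.comap_residue A _⟩

theorem exists_mem_closedFibre [UniversallyClosed f] {T : Set X} (hT : IsClosed T) (hne : T.Nonempty) :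
    ∃ z, ι₀ A f z ∈ T := by
  obtain ⟨x, hx⟩ := hne
  have hcl : IsClosed (f '' T) := f.isClosedMap _ hT
  have h1 : f x ⤳ IsLocalRing.closedPoint A := IsLocalRing.specializes_closedPoint _
  obtain ⟨y, hy, hy'⟩ := h1.mem_closed hcl ⟨x, hx, rfl⟩
  have h2 : y ∈ Set.range (ι₀ A f) := by
    rw [range_ι₀]
    exact hy'
  obtain ⟨z, rfl⟩ := h2
  exact ⟨z, hy⟩

theorem eq_top_of_closedFibre [UniversallyClosed f] {U : X.Opens} (h : ∀ z, ι₀ A f z ∈ U) : U = ⊤ := by
  by_contra hU
  have hne : ((U : Set X)ᶜ).Nonempty := by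
    rw [Set.nonempty_compl]
    intro h'
    exact hU (Opens.ext h')
  obtain ⟨z, hz⟩ := exists_mem_closedFibre A f U.isOpen.isClosed_compl hne
  exact hz (h z)

end K695.ClFib
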