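import Groth.Agent.Lift.K695.DeformSheaf
import Groth.Agent.Sga2lef.H96.ModSysPush
import Groth.Agent.FormalA.ExProj
import Groth.Agent.Ega2.QCohLocal

/-!
# Deforming finite locally free sheaves over a square-zero thickening (conclusion)
-/

set_option autoImplicit false
universe u
open CategoryTheory CategoryTheory.Limits CategoryTheory.Abelian AlgebraicGeometry Opposite TopologicalSpace

namespace K695.DeformFin

open Groth.Agent Groth.Agent.Fdesc.LocGen K695.SqZero K695.KillCat K695.ExtMult K695.DeformSheaf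

variable {X : Scheme.{u}} {I : X.IdealSheafData}

section

variable (hI : I ^ 2 = ⊥) {E₀ : I.subscheme.Modules} (hE₀ : FlatMod.IsFinLocFree E₀) {E : X.Modules}
  (j : (ps I).obj (CohB1.tensorMod E₀ ((pb I).obj (ClSub.idealMod I))) ⟶ E) (p : E ⟶ (ps I).obj E₀)
  (w : j ≫ p = 0) (hS : (ShortComplex.mk j p w).ShortExact)
  (hmul : ∀ (V : X.Opens) (a : Γ(ClSub.idealMod I, V)) (s : Γ(E, V)),
    ia a • s = j.app V ((mulPairing E₀).b V a (p.app V s)))

include hI hE₀ hS

/-- Local bases. -/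
theorem exists_local_basis (x : X) : ∃ (n : ℕ) (W : X.Opens) (_ : x ∈ W) (e : Fin n → Γ(E₀, I.subschemeι ⁻¹ᵁ W))
    (c : Fin n → Γ(E, W)), VarietyB.TensLoc.IsBasis E₀ (I.subschemeι ⁻¹ᵁ W) e ∧ ∀ i, p.app W (c i) = e i := by
  obtain ⟨z, rfl⟩ := exists_preimage hI x
  obtain ⟨n, U₀, hz, e, he⟩ := VarietyB.TensCoh.HasBases.of_isFinLocFree hE₀ z
  obtain ⟨V, hV, hVU⟩ := I.subschemeι.isClosedEmbedding.isInducing.isOpen_iff.1 U₀.isOpen
  have hU : (I.subschemeι ⁻¹ᵁ ⟨V, hV⟩ : I.subscheme.Opens) = U₀ := TopologicalSpace.Opens.ext hVU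
  subst hU
  have hp : Epi p := hS.epi_g
  obtain ⟨W, hWV, hzW, c, hc⟩ := Sga67.LocBasis.exists_lifts p (κ := Fin n) (U := ⟨V, hV⟩) e hz
  exact ⟨n, W, hzW, _, c, he.restrict (I.subschemeι.preimage_mono hWV), hc⟩

include hmul in
theorem isFinLocFree : FlatMod.IsFinLocFree E := by
  refine Sga67.LocBasis.isFinLocFree_of_exists fun x => ?_
  obtain ⟨n, W, hx, e, c, he, hc⟩ := exists_local_basis hI hE₀ j p w hS x
  exact ⟨W, Fin n, inferInstance, c, hx, isLocBasis hI j p w hS hmul he c hc⟩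

include hmul in
theorem comp_eq_zero_of_killed {Z : X.Modules} (φ : E ⟶ Z) (hZ : ClSub.KilledByIdeal I Z) : j ≫ φ = 0 := by
  refine Sga67.Sec.hom_ext_of_locally fun x U hx => ?_
  obtain ⟨n, W, hxW, e, c, he, hc⟩ := exists_local_basis hI hE₀ j p w hS x
  refine ⟨U ⊓ W, inf_le_left, ⟨hx, hxW⟩, fun m => ?_⟩
  obtain ⟨a, ha, -⟩ := exists_local_sum hI j p hmul he c hc (inf_le_right : U ⊓ W ≤ W) m
  change φ.app (U ⊓ W) (j.app (U ⊓ W) m) = 0
  rw [ha, map_sum]
  refine Finset.sum_eq_zero fun i _ => ?_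
  exact (Scheme.Modules.Hom.app_smul φ _ _).trans (smul_eq_zero hZ _ _)

include hmul in
theorem isKQuot : FormalB.KQuot.IsKQuot I p := by
  refine ⟨hS.epi_g, killed_ps E₀, fun {Z} φ hZ => ?_⟩
  have hp : Epi p := hS.epi_g
  have h1 : j ≫ φ = 0 := comp_eq_zero_of_killed hI hE₀ j p w hS hmul φ hZ
  exact ⟨hS.gIsCokernel.desc (CokernelCofork.ofπ φ h1), hS.gIsCokernel.fac _ WalkingParallelPair.one⟩

include hmul in
theorem nonempty_iso : Nonempty ((pb I).obj E ≅ E₀) := by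
  let adj := Scheme.Modules.pullbackPushforwardAdjunction I.subschemeι
  let q : (pb I).obj E ⟶ E₀ := (adj.homEquiv _ _).symm p
  have hq : (adj.homEquiv _ _) q = p := Equiv.apply_symm_apply _ _
  have hE : Coh.IsQCoh E := Ega2.QCohLocal.isQCoh_of_isFinLocFree (isFinLocFree hI hE₀ j p w hS hmul)
  have h1 : IsIso q := Sga2lef.H96.ModSysPush.isIso_of_isKQuot I hE q (by
    change FormalB.KQuot.IsKQuot I ((adj.homEquiv _ _) q)
    rw [hq]
    exact isKQuot hI hE₀ j p w hS hmul)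
  exact ⟨asIso q⟩

end

/-- **Deforming a finite locally free sheaf over a square-zero thickening**. -/
theorem exists_deformation (hI : I ^ 2 = ⊥) {E₀ : I.subscheme.Modules} (hE₀ : FlatMod.IsFinLocFree E₀)
    [HasExt.{u} I.subscheme.Modules]
    (h2 : Subsingleton (Ext.{u} E₀ (CohB1.tensorMod ((Scheme.Modules.pullback I.subschemeι).obj
      (ClSub.idealMod I)) E₀) 2)) :
    ∃ E : X.Modules, FlatMod.IsFinLocFree E ∧ Nonempty ((Scheme.Modules.pullback I.subschemeι).obj E ≅ E₀) := by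
  let c := FormalA.ExProj.counitIso I.subschemeι
  have h3 : Subsingleton (Ext.{u} ((pb I).obj ((ps I).obj E₀))
      ((pb I).obj ((ps I).obj (CohB1.tensorMod E₀ ((pb I).obj (ClSub.idealMod I))))) 2) := by
    refine ExtSplit.subsingleton_ext_of_iso_left (c.app E₀).symm 2 ?_
    refine ExtSplit.subsingleton_ext_of_iso_right (c.app _).symm 2 ?_
    exact ExtSplit.subsingleton_ext_of_iso_right (Ega2.Tens.swap _ _) 2 h2
  obtain ⟨E, j, p, w, hS, hmul⟩ := exists_extension (mulPairing E₀) (killed_ps _) (killed_ps _) h3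
  exact ⟨E, isFinLocFree hI hE₀ j p w hS hmul, nonempty_iso hI hE₀ j p w hS hmul⟩

end K695.DeformFin
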