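import Groth.Agent.Lift.K695.GrAlg
import Groth.Agent.Pic13.H126.ThickH1
import Groth.Agent.FormalB.ModPowAff
import Groth.Agent.Sga67.LocBasis
import Groth.Agent.CohqA.HBiprod
import Groth.Agent.CohqA.DirectSum
import Groth.Agent.Sga2.PicThick
import Groth.Agent.CohqA.AffMorCrit
import Mathlib.AlgebraicGeometry.Morphisms.Flat

/-!
# The graded pieces `J^(m+1)/J^(m+2)` of a flat scheme over `A`, `J = I O_X`, `I` maximal

They are isomorphic to finite direct sums of copies of `O_X/J`.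
-/

set_option autoImplicit false
universe u

open CategoryTheory CategoryTheory.Limits AlgebraicGeometry TopologicalSpace Opposite

namespace K695.GrFlat

open Groth.Agent.Sga2.LefThick Groth.Agent.FormalB Groth.Agent.FormalB.ModPowAff Groth.Agent.Pic13.H126.ThickH1
  Groth.Agent.CohqA.IdealMod K695.GrAlg

attribute [local instance] Abelian.hasFiniteBiproducts

variable {A : Type u} [CommRing A] {X : Scheme.{u}} [X.Over (Spec (CommRingCat.of A))]

/-- Evaluation of morphisms at a section, as an additive map. -/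
noncomputable def evAt {M N : X.Modules} (U : X.Opens) (w : Γ(M, U)) : (M ⟶ N) →+ Γ(N, U) where
  toFun f := f.app U w
  map_zero' := rfl
  map_add' _ _ := rfl

theorem isIso_of_affine {M N : X.Modules} (f : M ⟶ N)
    (H : ∀ U : X.affineOpens, Function.Bijective (f.app U.1)) : IsIso f := by
  refine Groth.Agent.Sga67.LocBasis.isIso_of_bijective f fun x U hxU => ?_
  obtain ⟨_, ⟨V, hV, rfl⟩, hxV, hVU⟩ := X.isBasis_affineOpens.exists_subset_of_mem_open hxU U.isOpen
  exact ⟨V, hVU, hxV, H ⟨V, hV⟩⟩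

theorem hom_ext_affine {M N : X.Modules} {f g : M ⟶ N}
    (H : ∀ (U : X.affineOpens) (s : Γ(M, U.1)), f.app U.1 s = g.app U.1 s) : f = g := by
  refine Groth.Agent.Sga67.Sec.hom_ext_of_locally fun x U hxU => ?_
  obtain ⟨_, ⟨V, hV, rfl⟩, hxV, hVU⟩ := X.isBasis_affineOpens.exists_subset_of_mem_open hxU U.isOpen
  exact ⟨V, hVU, hxV, H ⟨V, hV⟩⟩

variable (I : Ideal A) (J : X.IdealSheafData)
    (hJ : ∀ U : X.affineOpens, J.ideal U = I.map (toΓ A X U.1))

include hJ

theorem pow_ideal (U : X.affineOpens) (n : ℕ) : (J ^ n).ideal U = (I ^ n).map (toΓ A X U.1) := by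
  rw [Scheme.IdealSheafData.ideal_pow, Pi.pow_apply, hJ U, Ideal.map_pow]

/-- Multiplication by `a ∈ I^(m+1)` as a map `O_X/J ⟶ J^(m+1)/J^(m+2)`. -/
theorem exists_mulMap (m : ℕ) (a : A) (ha : a ∈ I ^ (m + 1)) :
    ∃ ψ : ClSub.quotMod J ⟶ P J m, ClSub.toSubscheme J ≫ ψ ≫ kernel.ι _ =
      Formal.smulMod A _ a ≫ ClSub.toSubscheme (J ^ (m + 1 + 1)) := by
  have : Epi (C := X.Modules) (ClSub.toSubscheme J) := epi_toSubscheme J
  have h1 : kernel.ι (C := X.Modules) (ClSub.toSubscheme J) ≫ Formal.smulMod A _ a ≫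
      ClSub.toSubscheme (J ^ (m + 1 + 1)) = 0 := by
    refine hom_ext_affine fun U s => ?_
    have key : ∀ t : Γ(X, U.1), t ∈ J.ideal U → toΓ A X U.1 a * t ∈ (J ^ (m + 1 + 1)).ideal U := by
      intro t ht
      rw [pow_ideal I J hJ, pow_succ, Ideal.map_mul]
      rw [hJ] at ht
      exact Ideal.mul_mem_mul (Ideal.mem_map_of_mem _ ha) ht
    exact (toSubscheme_app_eq_zero_iff _ U _).2 (key _ ((exists_idealModι_app_iff J U _).1 ⟨s, rfl⟩))
  let χ : ClSub.quotMod J ⟶ ClSub.quotMod (J ^ (m + 1 + 1)) :=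
    Abelian.epiDesc (ClSub.toSubscheme J) _ h1
  have hχ : ClSub.toSubscheme J ≫ χ = Formal.smulMod A _ a ≫ ClSub.toSubscheme (J ^ (m + 1 + 1)) :=
    Abelian.comp_epiDesc _ _ _
  have h2 : χ ≫ Lef.quotMap (Lef.pow_succ_le J m) = 0 := by
    rw [← cancel_epi (ClSub.toSubscheme J), comp_zero, reassoc_of% hχ, toSubscheme_quotMap]
    refine hom_ext_affine fun U s => ?_
    have key : ∀ t : Γ(X, U.1), toΓ A X U.1 a * t ∈ (J ^ (m + 1)).ideal U := by
      intro t
      rw [pow_ideal I J hJ]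
      exact Ideal.mul_mem_right _ _ (Ideal.mem_map_of_mem _ ha)
    exact (toSubscheme_app_eq_zero_iff _ U _).2 (key _)
  exact ⟨kernel.lift _ χ h2, by rw [kernel.lift_ι, hχ]⟩

omit hJ in
theorem flat_toΓ [Flat (X ↘ Spec (CommRingCat.of A))] (U : X.affineOpens) : (toΓ A X U.1).Flat := by
  have h1 := Flat.flat_appLE (X ↘ Spec (CommRingCat.of A)) (isAffineOpen_top _) U.2
    (fun _ _ => trivial : U.1 ≤ (X ↘ Spec (CommRingCat.of A)) ⁻¹ᵁ ⊤)
  have h2 : ((Scheme.ΓSpecIso (CommRingCat.of A)).inv.hom).Flat :=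
    RingHom.Flat.of_bijective (ConcreteCategory.bijective_of_isIso (Scheme.ΓSpecIso (CommRingCat.of A)).inv)
  exact RingHom.Flat.comp (f := (Scheme.ΓSpecIso (CommRingCat.of A)).inv.hom) h2 h1

/-- **The graded pieces of a flat scheme.** -/
theorem exists_iso [I.IsMaximal] [Flat (X ↘ Spec (CommRingCat.of A))] (m : ℕ) (hI : (I ^ (m + 1)).FG) :
    ∃ r : ℕ, Nonempty ((⨁ fun _ : Fin r => ClSub.quotMod J) ≅ P J m) := by
  obtain ⟨r, x, hx⟩ := exists_isGrBasis I (I ^ (m + 1)) hI
  choose ψ hψ using fun j => exists_mulMap I J hJ m (x j) (hx.mem j)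
  let Q : Fin r → X.Modules := fun _ => ClSub.quotMod J
  let Ψ : (⨁ Q) ⟶ P J m := biproduct.desc ψ
  have hI' : I * I ^ (m + 1) = I ^ (m + 1 + 1) := (pow_succ' I (m + 1)).symm
  -- the map on sections
  have hsec : ∀ (U : X.affineOpens) (b : Fin r → Γ(X, U.1)),
      (kernel.ι (Lef.quotMap (Lef.pow_succ_le J m))).app U.1
        (Ψ.app U.1 (∑ j, (biproduct.ι Q j).app U.1 ((ClSub.toSubscheme J).app U.1 (b j)))) =
        (ClSub.toSubscheme (J ^ (m + 1 + 1))).app U.1 (∑ j, b j * toΓ A X U.1 (x j) : Γ(X, U.1)) := by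
    intro U b
    rw [map_sum, map_sum]
    refine Eq.trans ?_ (map_sum _ _ _).symm
    refine Finset.sum_congr rfl fun j _ => ?_
    have h1 : biproduct.ι Q j ≫ Ψ = ψ j := biproduct.ι_desc _ _
    have h2 : Ψ.app U.1 ((biproduct.ι Q j).app U.1 ((ClSub.toSubscheme J).app U.1 (b j))) =
        (ψ j).app U.1 ((ClSub.toSubscheme J).app U.1 (b j)) := congr(($h1).app U.1 _)
    have h3 : (kernel.ι (Lef.quotMap (Lef.pow_succ_le J m))).app U.1
        ((ψ j).app U.1 ((ClSub.toSubscheme J).app U.1 (b j))) =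
        (ClSub.toSubscheme (J ^ (m + 1 + 1))).app U.1 (toΓ A X U.1 (x j) * b j : Γ(X, U.1)) :=
      congr(($(hψ j)).app U.1 (b j))
    rw [h2, h3, mul_comm]
  have : IsIso Ψ := by
    refine isIso_of_affine Ψ fun U => ?_
    constructor
    · rw [injective_iff_map_eq_zero]
      intro z hz
      choose b hb using fun j => toSubscheme_app_surjective J U ((biproduct.π Q j).app U.1 z)
      have hz' : z = ∑ j, (biproduct.ι Q j).app U.1 ((ClSub.toSubscheme J).app U.1 (b j)) := by
        have h1 : ∀ w : Γ(⨁ Q, U.1), (∑ j, biproduct.π Q j ≫ biproduct.ι Q j).app U.1 w =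
            ∑ j, (biproduct.ι Q j).app U.1 ((biproduct.π Q j).app U.1 w) := by
          intro w
          exact map_sum (evAt U.1 w) _ _
        rw [biproduct.total] at h1
        rw [Finset.sum_congr rfl fun j _ => congrArg _ (hb j)]
        exact h1 z
      rw [hz'] at hz ⊢
      have h2 := hsec U b
      rw [hz, map_zero] at h2
      have h3 := (toSubscheme_app_eq_zero_iff _ U _).1 h2.symm
      rw [pow_ideal I J hJ, ← hI'] at h3
      refine Finset.sum_eq_zero fun j _ => ?_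
      have h4 := hx.indep_ringHom (toΓ A X U.1) (flat_toΓ U) b h3 j
      rw [(toSubscheme_app_eq_zero_iff J U (b j)).2 (by rw [hJ]; exact h4), map_zero]
    · intro y
      obtain ⟨(t : Γ(X, U.1)), ht⟩ := toSubscheme_app_surjective (J ^ (m + 1 + 1)) U
        ((kernel.ι (Lef.quotMap (Lef.pow_succ_le J m))).app U.1 y)
      have h1 : t ∈ (J ^ (m + 1)).ideal U := by
        refine (toSubscheme_app_eq_zero_iff (J ^ (m + 1)) U t).1 ?_
        have h2 := congr(($(toSubscheme_quotMap (Lef.pow_succ_le J m))).app U.1 t)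
        refine h2.symm.trans ?_
        change (Lef.quotMap (Lef.pow_succ_le J m)).app U.1 ((ClSub.toSubscheme (J ^ (m + 1 + 1))).app U.1 t) = 0
        rw [ht]
        exact kernel_ι_app_comp _ _ _
      rw [pow_ideal I J hJ] at h1
      obtain ⟨b, hb⟩ := hx.span_ringHom (toΓ A X U.1) t h1
      refine ⟨∑ j, (biproduct.ι Q j).app U.1 ((ClSub.toSubscheme J).app U.1 (b j)), ?_⟩
      apply kernel_ι_injective
      rw [hsec U b, ← ht]
      symm
      rw [toSubscheme_app_eq_iff, pow_ideal I J hJ, ← hI']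
      exact hb
  exact ⟨r, ⟨asIso Ψ⟩⟩

/-- Vanishing of the cohomology of the graded pieces. -/
theorem subsingleton_HH [I.IsMaximal] [Flat (X ↘ Spec (CommRingCat.of A))]
    (m : ℕ) (hI : (I ^ (m + 1)).FG) (p : ℕ) (h1 : Subsingleton (Coh.HH X (ClSub.quotMod J) p)) :
    Subsingleton (Coh.HH X (P J m) p) := by
  obtain ⟨r, ⟨e⟩⟩ := exists_iso I J hJ m hI
  have h2 := Groth.Agent.CohqA.HBiprod.subsingleton_HH_biproduct (fun _ : Fin r => ClSub.quotMod J) p fun _ => h1
  exact Groth.Agent.CohqA.DirectSum.subsingleton_of_iso e p h2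

section

omit [X.Over (Spec (CommRingCat.of A))] hJ

theorem isIso_unitToPush {Z Z' : Scheme.{u}} (e : Z ⟶ Z') [IsIso e] :
    IsIso (C := Z'.Modules) (ClSub.unitToPush e) :=
  isIso_of_affine _ fun U => ConcreteCategory.bijective_of_isIso (e.app U.1)

/-- `O_X/J ≅ i_* O_Z` for a closed immersion `i` with ideal `J`. -/
theorem nonempty_quotMod_iso {Z : Scheme.{u}} (i : Z ⟶ X) [IsClosedImmersion i] :
    Nonempty (ClSub.quotMod i.ker ≅ (Scheme.Modules.pushforward i).obj (Coh.structureModule Z)) := by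
  have h : i.ker.subschemeι.ker = i.ker := Scheme.IdealSheafData.ker_subschemeι _
  let e : Z ⟶ i.ker.subscheme := IsClosedImmersion.lift i.ker.subschemeι i h.le
  have he : IsIso e := IsClosedImmersion.isIso_lift _ _ h
  have hfac : e ≫ i.ker.subschemeι = i := IsClosedImmersion.lift_fac _ _ _
  have := isIso_unitToPush e
  exact ⟨(Scheme.Modules.pushforward i.ker.subschemeι).mapIso (asIso (ClSub.unitToPush e)) ≪≫
    (Scheme.Modules.pushforwardComp e i.ker.subschemeι).app _ ≪≫ (Scheme.Modules.pushforwardCongr hfac).app _⟩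

/-- Vanishing of the cohomology of `O_X/J`. -/
theorem subsingleton_HH_quotMod {Z : Scheme.{u}} (i : Z ⟶ X) [IsClosedImmersion i] (p : ℕ)
    (h : Subsingleton (Coh.HH Z (Coh.structureModule Z) p)) :
    Subsingleton (Coh.HH X (ClSub.quotMod i.ker) p) := by
  obtain ⟨e⟩ := nonempty_quotMod_iso i
  exact Groth.Agent.CohqA.DirectSum.subsingleton_of_iso e.symm p
    (Groth.Agent.Sga2.PicThick.subsingleton_HH_pushforward i _ p h)

end

end K695.GrFlat
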