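import Mathlib.Algebra.Homology.DerivedCategory.Ext.EnoughInjectives
import Mathlib.Algebra.Homology.DerivedCategory.Ext.ExactSequences
import Mathlib.CategoryTheory.Limits.Shapes.Pullback.IsPullback.Kernels
import Mathlib.CategoryTheory.Abelian.Basic
import Mathlib.Algebra.Homology.ShortComplex.ShortExact

/-!
# Splittings and liftings from the vanishing of `Ext¹`
-/

set_option autoImplicit false
universe w v u

open CategoryTheory CategoryTheory.Limits CategoryTheory.Abelian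

namespace K695.ExtSplit

variable {C : Type u} [Category.{v} C] [Abelian C]

section Ext

variable [HasExt.{w} C]

/-- An extension of `X₃` by `X₁` splits if `Ext¹(X₃, X₁) = 0`: a section. -/
theorem exists_section {S : ShortComplex C} (hS : S.ShortExact) (h : Subsingleton (Ext.{w} S.X₃ S.X₁ 1)) :
    ∃ s : S.X₃ ⟶ S.X₂, s ≫ S.g = 𝟙 _ := by
  obtain ⟨x, hx⟩ := Ext.covariant_sequence_exact₃ S.X₃ hS (Ext.mk₀ (𝟙 S.X₃)) (zero_add 1)
    (Subsingleton.elim _ _)
  obtain ⟨s, rfl⟩ := (Ext.mk₀_bijective S.X₃ S.X₂).2 x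
  refine ⟨s, ?_⟩
  rw [Ext.mk₀_comp_mk₀] at hx
  exact (Ext.mk₀_bijective S.X₃ S.X₃).1 hx

/-- `Ext¹(A, S.X₃) = 0` if `Ext¹(A, S.X₂) = 0` and `Ext²(A, S.X₁) = 0`. -/
theorem subsingleton_ext {S : ShortComplex C} (hS : S.ShortExact) (A : C) (n : ℕ)
    (h₂ : Subsingleton (Ext.{w} A S.X₂ n)) (h₁ : Subsingleton (Ext.{w} A S.X₁ (n + 1))) :
    Subsingleton (Ext.{w} A S.X₃ n) := by
  refine subsingleton_of_forall_eq 0 fun x => ?_
  obtain ⟨y, hy⟩ := Ext.covariant_sequence_exact₃ A hS x rfl (Subsingleton.elim _ _)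
  rw [← hy, Subsingleton.elim y 0, Ext.zero_comp]

theorem subsingleton_ext_of_iso_left {A A' B : C} (e : A ≅ A') (n : ℕ)
    (h : Subsingleton (Ext.{w} A B n)) : Subsingleton (Ext.{w} A' B n) := by
  refine subsingleton_of_forall_eq 0 fun x => ?_
  have h1 : (Ext.mk₀ e.inv).comp ((Ext.mk₀ e.hom).comp x (zero_add n)) (zero_add n) = x := by
    rw [Ext.mk₀_comp_mk₀_assoc, e.inv_hom_id, Ext.mk₀_id_comp]
  rw [← h1, Subsingleton.elim ((Ext.mk₀ e.hom).comp x (zero_add n)) 0, Ext.comp_zero]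

theorem subsingleton_ext_of_iso_right {A B B' : C} (e : B ≅ B') (n : ℕ)
    (h : Subsingleton (Ext.{w} A B n)) : Subsingleton (Ext.{w} A B' n) := by
  refine subsingleton_of_forall_eq 0 fun x => ?_
  have h1 : (x.comp (Ext.mk₀ e.inv) (add_zero n)).comp (Ext.mk₀ e.hom) (add_zero n) = x := by
    rw [Ext.comp_assoc_of_second_deg_zero, Ext.mk₀_comp_mk₀, e.inv_hom_id, Ext.comp_mk₀_id]
  rw [← h1, Subsingleton.elim (x.comp (Ext.mk₀ e.inv) (add_zero n)) 0, Ext.zero_comp]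

end Ext

/-- A section gives a retraction. -/
theorem exists_retraction {S : ShortComplex C} (hS : S.ShortExact) (s : S.X₃ ⟶ S.X₂) (hs : s ≫ S.g = 𝟙 _) :
    ∃ r : S.X₂ ⟶ S.X₁, S.f ≫ r = 𝟙 _ := by
  have := hS.mono_f
  have := hS.epi_g
  let σ := ShortComplex.Splitting.ofExactOfSection S hS.exact s hs inferInstance
  exact ⟨σ.r, σ.f_r⟩

/-- A retraction gives a section. -/
theorem exists_section_of_retraction {S : ShortComplex C} (hS : S.ShortExact) (r : S.X₂ ⟶ S.X₁)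
    (hr : S.f ≫ r = 𝟙 _) : ∃ s : S.X₃ ⟶ S.X₂, s ≫ S.g = 𝟙 _ := by
  have := hS.mono_f
  have := hS.epi_g
  let σ := ShortComplex.Splitting.ofExactOfRetraction S hS.exact r hr inferInstance
  exact ⟨σ.s, σ.s_g⟩

/-- The pullback of an extension `0 ⟶ ker η ⟶ F ⟶ Q ⟶ 0` along `a : E ⟶ Q`. -/
noncomputable def pbSeq {F Q E : C} (η : F ⟶ Q) (a : E ⟶ Q) : ShortComplex C :=
  ShortComplex.mk (kernel.ι (pullback.fst a η)) (pullback.fst a η) (kernel.condition _)

theorem pbSeq_shortExact {F Q E : C} (η : F ⟶ Q) [Epi η] (a : E ⟶ Q) : (pbSeq η a).ShortExact :=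
  { exact := ShortComplex.exact_kernel _
    mono_f := inferInstanceAs (Mono (kernel.ι (pullback.fst a η)))
    epi_g := inferInstanceAs (Epi (pullback.fst a η)) }

/-- The kernel of the pullback. -/
noncomputable def pbKer {F Q E : C} (η : F ⟶ Q) (a : E ⟶ Q) : (pbSeq η a).X₁ ≅ kernel η := by
  have hp : IsPullback (pullback.fst a η) (pullback.snd a η) a η := IsPullback.of_hasPullback a η
  exact @asIso _ _ _ _ (kernel.map _ _ _ _ hp.w) (isIso_kernel_map_of_isPullback hp)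

/-- A section of the pulled back extension is a lift of `a`. -/
theorem exists_lift_of_section {F Q E : C} (η : F ⟶ Q) (a : E ⟶ Q) (s : E ⟶ (pbSeq η a).X₂)
    (hs : s ≫ (pbSeq η a).g = 𝟙 E) : ∃ u : E ⟶ F, u ≫ η = a :=
  have h1 : ∀ t : E ⟶ pullback a η, t ≫ pullback.fst a η = 𝟙 E → ∃ u : E ⟶ F, u ≫ η = a := fun t ht =>
    ⟨t ≫ pullback.snd a η, by rw [Category.assoc, ← pullback.condition, reassoc_of% ht]⟩
  h1 s hs

end K695.ExtSplit
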