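import Groth.Agent.Lift.K695.ExtMult
import Groth.Agent.VarietyB.TensLoc
import Groth.Agent.Sga67.LocBasisOps

/-!
# Deforming finite locally free sheaves over a square-zero thickening
-/

set_option autoImplicit false
universe u
open CategoryTheory CategoryTheory.Limits CategoryTheory.Abelian AlgebraicGeometry Opposite TopologicalSpace

namespace K695.DeformSheaf

open Groth.Agent Groth.Agent.Fdesc.LocGen K695.SqZero K695.KillCat K695.ExtMult

variable {X : Scheme.{u}} {I : X.IdealSheafData}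

/-- The pairing `I × i_* E₀ → i_* (E₀ ⊗ i^* I)`. -/
noncomputable def mulPairing (E₀ : I.subscheme.Modules) :
    Pairing (ClSub.idealMod I) ((ps I).obj E₀)
      ((ps I).obj (CohB1.tensorMod E₀ ((pb I).obj (ClSub.idealMod I)))) where
  b V a e := VarietyB.TensLoc.tmul (M := E₀) (N := (pb I).obj (ClSub.idealMod I)) (U := I.subschemeι ⁻¹ᵁ V) e
    (pullSec I.subschemeι a)
  add_left V a a' e := by
    rw [pullSec_add]
    exact VarietyB.TensLoc.tmul_add _ _ _
  add_right V a e e' := VarietyB.TensLoc.add_tmul _ _ _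
  smul_left V r a e := by
    rw [pullSec_smul]
    exact VarietyB.TensLoc.tmul_smul _ _ _
  smul_right V r a e := VarietyB.TensLoc.smul_tmul (I.subschemeι.app V r) _ _
  nat V W h a e := by
    have h1 := VarietyB.TensLoc.res_tmul (M := E₀) (N := (pb I).obj (ClSub.idealMod I))
      (I.subschemeι.preimage_mono h) e (pullSec I.subschemeι a)
    refine Eq.trans ?_ h1.symm
    congr 1
    exact (res_pullSec I.subschemeι h a).symm

/-- `Γ(I, V) ⟶ Γ(i^* I, i⁻¹ V)` is bijective. -/
theorem pullSec_bijective (hI : I ^ 2 = ⊥) (V : X.Opens) :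
    Function.Bijective (pullSec I.subschemeι : Γ(ClSub.idealMod I, V) → _) := by
  have h1 : IsIso (η I (ClSub.idealMod I)) := isIso_η (killed_idealMod hI)
  have h2 : IsIso ((η I (ClSub.idealMod I)).app V) := inferInstance
  exact (ConcreteCategory.isIso_iff_bijective _).1 h2

theorem exists_preimage (hI : I ^ 2 = ⊥) (x : X) : ∃ z, I.subschemeι z = x := by
  have h1 : x ∈ Set.range I.subschemeι := by
    rw [Scheme.IdealSheafData.range_subschemeι]
    have h2 : (I ^ (1 + 1)).support = I.support := Scheme.IdealSheafData.support_pow_succ _ _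
    rw [← h2]
    change x ∈ ((I ^ 2).support : Set X)
    rw [hI]
    simp
  exact h1

section

variable (hI : I ^ 2 = ⊥) {E₀ : I.subscheme.Modules} {E : X.Modules}
  (j : (ps I).obj (CohB1.tensorMod E₀ ((pb I).obj (ClSub.idealMod I))) ⟶ E) (p : E ⟶ (ps I).obj E₀)
  (w : j ≫ p = 0) (hS : (ShortComplex.mk j p w).ShortExact)
  (hmul : ∀ (V : X.Opens) (a : Γ(ClSub.idealMod I, V)) (s : Γ(E, V)),
    ia a • s = j.app V ((mulPairing E₀).b V a (p.app V s)))

include hI hmul in
/-- Local generators of `I E`. -/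
theorem exists_local_sum {n : ℕ} {W : X.Opens} {e : Fin n → Γ(E₀, I.subschemeι ⁻¹ᵁ W)}
    (he : VarietyB.TensLoc.IsBasis E₀ (I.subschemeι ⁻¹ᵁ W) e) (c : Fin n → Γ(E, W))
    (hc : ∀ i, p.app W (c i) = e i) {V : X.Opens} (hV : V ≤ W)
    (m : Γ((ps I).obj (CohB1.tensorMod E₀ ((pb I).obj (ClSub.idealMod I))), V)) :
    ∃ a : Fin n → Γ(ClSub.idealMod I, V), (j.app V m = ∑ i, ia (a i) • res E hV (c i)) ∧
      ((∀ i, a i = 0) → m = 0) := by
  obtain ⟨f, hf⟩ := VarietyB.TensLoc.tcomb_surjective he ((pb I).obj (ClSub.idealMod I))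
    (I.subschemeι.preimage_mono hV) m
  choose a ha using fun i => (pullSec_bijective hI V).2 (f i)
  have h1 : m = ∑ i, (mulPairing E₀).b V (a i) (res ((ps I).obj E₀) hV (e i)) := by
    rw [← hf, VarietyB.TensLoc.tcomb_apply]
    refine Finset.sum_congr rfl fun i _ => ?_
    rw [← ha i]
    rfl
  refine ⟨a, ?_, fun h => ?_⟩
  · rw [h1, map_sum]
    refine Finset.sum_congr rfl fun i _ => ?_
    rw [hmul, app_res, hc]
  · rw [h1]
    refine Finset.sum_eq_zero fun i _ => ?_
    rw [h i, ← zero_smul Γ(X, V) (0 : Γ(ClSub.idealMod I, V)), (mulPairing E₀).smul_left, zero_smul]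

include hI hS hmul in
theorem isLocBasis {n : ℕ} {W : X.Opens} {e : Fin n → Γ(E₀, I.subschemeι ⁻¹ᵁ W)}
    (he : VarietyB.TensLoc.IsBasis E₀ (I.subschemeι ⁻¹ᵁ W) e) (c : Fin n → Γ(E, W))
    (hc : ∀ i, p.app W (c i) = e i) : Sga67.LocBasis.IsLocBasis (M := E) (U := W) c := by
  have hjm : Mono j := hS.mono_f
  refine Sga67.LocBasis.isLocBasis_of_locally c fun x V hV hxV => ?_
  obtain ⟨_, ⟨W', hW', rfl⟩, hxW', hWV'⟩ := X.isBasis_affineOpens.exists_subset_of_mem_open hxV V.isOpen
  have hWW : W' ≤ W := hWV'.trans hV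
  refine ⟨W', hWW, hWV', hxW', ?_⟩
  let cmb : (Fin n → Γ(X, W')) → Γ(E, W') := fun r => ∑ i, r i • res E hWW (c i)
  have hcomb : ∀ r : Fin n → Γ(X, W'), p.app W' (cmb r) =
      ∑ i, (I.subschemeι.app W' (r i) : Γ(I.subscheme, I.subschemeι ⁻¹ᵁ W')) •
        res E₀ (I.subschemeι.preimage_mono hWW) (e i) := by
    intro r
    refine (map_sum (p.app W').hom _ _).trans (Finset.sum_congr rfl fun i _ => ?_)
    refine (Scheme.Modules.Hom.app_smul p _ _).trans ?_
    have h1 : p.app W' (res E hWW (c i)) = res ((ps I).obj E₀) hWW (e i) := by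
      rw [app_res, hc]
    exact congrArg (fun z : Γ((ps I).obj E₀, W') => r i • z) h1
  have hbas := he (I.subschemeι ⁻¹ᵁ W') (I.subschemeι.preimage_mono hWW)
  have hinj : ∀ r, cmb r = 0 → r = 0 := by
    intro r hr
    have h1 := hcomb r
    rw [hr, map_zero] at h1
    have h2 : (fun i => (I.subschemeι.app W' (r i) : Γ(I.subscheme, I.subschemeι ⁻¹ᵁ W'))) = 0 := by
      apply hbas.1
      refine h1.symm.trans ?_
      simp only [Pi.zero_apply, zero_smul, Finset.sum_const_zero]
      rfl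
    have h3 : ∀ i, r i ∈ I.ideal ⟨W', hW'⟩ := by
      intro i
      rw [← I.ker_subschemeι_app ⟨W', hW'⟩, RingHom.mem_ker]
      exact congrFun h2 i
    choose a ha using fun i => (CohqA.IdealMod.exists_idealModι_app_iff I ⟨W', hW'⟩ (r i)).2 (h3 i)
    let m : Γ((ps I).obj (CohB1.tensorMod E₀ ((pb I).obj (ClSub.idealMod I))), W') :=
      ∑ i, (mulPairing E₀).b W' (a i) (res ((ps I).obj E₀) hWW (e i))
    have h4 : j.app W' m = 0 := by
      rw [map_sum, ← hr]
      refine Finset.sum_congr rfl fun i _ => ?_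
      have h5 : r i = ia (a i) := (ha i).symm
      rw [h5]
      have h6 := hmul W' (a i) (res E hWW (c i))
      rw [app_res, hc] at h6
      exact h6.symm
    have h7 : m = 0 := app_injective j W' (h4.trans (map_zero _).symm)
    have h8 : VarietyB.TensLoc.tcomb e ((pb I).obj (ClSub.idealMod I)) (I.subschemeι.preimage_mono hWW)
        (fun i => pullSec I.subschemeι (a i)) = 0 := h7
    have h9 := VarietyB.TensLoc.tcomb_injective he ((pb I).obj (ClSub.idealMod I))
      (I.subschemeι.preimage_mono hWW) (h8.trans (map_zero _).symm)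
    have h10 : ∀ i, a i = 0 := fun i => (pullSec_bijective hI W').1
      ((congrFun h9 i).trans (map_zero ((η I (ClSub.idealMod I)).app W').hom).symm)
    funext i
    rw [← ha i, h10 i, map_zero]
    rfl
  have hadd : ∀ r r', cmb (r + r') = cmb r + cmb r' := by
    intro r r'
    simp only [cmb, Pi.add_apply, add_smul, Finset.sum_add_distrib]
  have hsurj : Function.Surjective cmb := by
    intro s
    obtain ⟨c', hc'⟩ := hbas.2 (p.app W' s)
    choose r hr using fun i => I.subschemeι_app_surjective ⟨W', hW'⟩ (c' i)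
    have h1 : p.app W' (s - cmb r) = 0 := by
      rw [map_sub, hcomb r, sub_eq_zero, ← hc']
      exact Finset.sum_congr rfl fun i _ => by rw [← hr i]; rfl
    obtain ⟨m, hm⟩ := Sga67.Sec.exists_of_appS_eq_zero hS.exact (s - cmb r) h1
    obtain ⟨a, ha, -⟩ := exists_local_sum hI j p hmul he c hc hWW m
    refine ⟨r + fun i => ia (a i), ?_⟩
    have h2 : cmb (fun i => ia (a i)) = s - cmb r := ha.symm.trans hm
    rw [hadd, h2, add_sub_cancel]
  refine ⟨fun r r' h => ?_, hsurj⟩
  have h1 : cmb (r - r') = 0 := by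
    have h2 := hadd (r - r') r'
    rw [sub_add_cancel] at h2
    have h3 : cmb r = cmb r' := h
    rw [h3] at h2
    exact right_eq_add.1 h2
  exact sub_eq_zero.1 (hinj _ h1)

end

end K695.DeformSheaf
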