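import Groth.Agent.Fdesc.LocGen
import Groth.Agent.PerfC.ExtZero2
import Mathlib.CategoryTheory.Preadditive.Injective.Basic

/-!
# Injective modules: extension of linear maps defined on the opens inside `U`
-/

set_option autoImplicit false
universe u
open CategoryTheory CategoryTheory.Limits AlgebraicGeometry Opposite TopologicalSpace

namespace K695.InjExt

open Groth.Agent.Fdesc.LocGen

variable {X : Scheme.{u}}

instance injective_restrict {U : X.Opens} (K : X.Modules) [Injective K] :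
    Injective ((Scheme.Modules.restrictFunctor U.ι).obj K) :=
  Injective.injective_of_adjoint (Groth.Agent.PerfC.ExtZero.adj U.ι) K

theorem image_preimage_eq {U W : X.Opens} (h : W ≤ U) : U.ι ''ᵁ (U.ι ⁻¹ᵁ W) = W := by
  rw [Scheme.Hom.image_preimage_eq_opensRange_inf, Scheme.Opens.opensRange_ι]
  exact inf_eq_right.2 h

/-- The underlying function of a section of the structure module. -/
def fn {V : X.Opens} (s : Γ(Coh.structureModule X, V)) : Γ(X, V) := s

/-- A linear map `A|_U ⟶ K`, `A ⊂ O_X`, `K` injective, is the multiplication by a section of `K` over `U`. -/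
theorem exists_section {A K : X.Modules} [Injective K] (ι : A ⟶ Coh.structureModule X) [Mono ι] (U : X.Opens)
    (φ : ∀ W : X.Opens, W ≤ U → Γ(A, W) →+ Γ(K, W))
    (hlin : ∀ (W : X.Opens) (h : W ≤ U) (r : Γ(X, W)) (a : Γ(A, W)), φ W h (r • a) = r • φ W h a)
    (hnat : ∀ (W W' : X.Opens) (h : W ≤ U) (h' : W' ≤ W) (a : Γ(A, W)),
      φ W' (h'.trans h) (res A h' a) = res K h' (φ W h a)) :
    ∃ t : Γ(K, U), ∀ (W : X.Opens) (h : W ≤ U) (a : Γ(A, W)), fn (ι.app W a) • res K h t = φ W h a := by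
  let R := Scheme.Modules.restrictFunctor U.ι
  let φ' : R.obj A ⟶ R.obj K := mkHom (M := R.obj A) (N := R.obj K)
    (fun W => φ (U.ι ''ᵁ W) (U.ι_image_le W))
    (fun W a m => hlin _ _ ((U.ι.appIso W).inv a) m)
    (fun W W' h m => hnat _ _ _ (U.ι.image_mono h) m)
  have hm : Mono (R.map ι) := inferInstance
  let g : R.obj (Coh.structureModule X) ⟶ R.obj K := Injective.factorThru φ' (R.map ι)
  have hg : R.map ι ≫ g = φ' := Injective.comp_factorThru _ _
  have hU : U ≤ U.ι ''ᵁ ⊤ := by simp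
  let t' : Γ(K, U.ι ''ᵁ ⊤) := g.app ⊤ (one (U.ι ''ᵁ ⊤) : Γ(Coh.structureModule X, U.ι ''ᵁ ⊤))
  refine ⟨res K hU t', fun W h a => ?_⟩
  obtain ⟨W', rfl⟩ : ∃ W' : (U : Scheme.{u}).Opens, U.ι ''ᵁ W' = W := ⟨_, image_preimage_eq h⟩
  have h1 : g.app W' (ι.app (U.ι ''ᵁ W') a : Γ(Coh.structureModule X, U.ι ''ᵁ W')) =
      φ (U.ι ''ᵁ W') (U.ι_image_le W') a := congr(($hg).app W' a)
  have h2 : ∀ s : Γ(Coh.structureModule X, U.ι ''ᵁ W'),
      g.app W' s = fn s • res K (U.ι.image_mono (le_top : W' ≤ ⊤)) t' := by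
    intro s
    have h3 : s = fn s • one (U.ι ''ᵁ W') := ofFun_eq_smul (fn s)
    have h4 : toRestrict (M := Coh.structureModule X) U.ι (U := W') s = (U.ι.appIso W').hom (fn s) •
        toRestrict U.ι (one (U.ι ''ᵁ W')) := by
      conv_lhs => rw [h3]
      exact toRestrict_smul U.ι (fn s) _
    have h5 : g.app W' (toRestrict (M := Coh.structureModule X) U.ι (U := W') s) =
        (U.ι.appIso W').hom (fn s) • g.app W' (toRestrict U.ι (one (U.ι ''ᵁ W'))) := by
      rw [h4]
      exact Scheme.Modules.Hom.app_smul g _ _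
    have h6 : g.app W' (toRestrict U.ι (one (U.ι ''ᵁ W'))) =
        toRestrict (M := K) U.ι (U := W') (res K (U.ι.image_mono (le_top : W' ≤ ⊤)) t') := by
      have h7 : toRestrict (M := Coh.structureModule X) U.ι (U := W') (one (U.ι ''ᵁ W')) =
        res (R.obj (Coh.structureModule X)) (le_top : W' ≤ ⊤)
          (toRestrict U.ι (one (U.ι ''ᵁ ⊤))) := by
        rw [res_toRestrict, res_one]
      rw [h7]
      exact app_res g _ _
    have h8 := toRestrict_smul (M := K) U.ι (fn s) (res K (U.ι.image_mono (le_top : W' ≤ ⊤)) t')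
    exact h5.trans ((congrArg ((U.ι.appIso W').hom (fn s) • ·) h6).trans h8.symm)
  rw [← h1, res_res]
  exact (h2 _).symm

end K695.InjExt
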