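import Groth.Agent.Lift.K695.SqZero
import Groth.Agent.S0484
import Groth.Agent.Sga2lef.H96.ModSysPush
import Groth.Agent.Sga67.Sec
import Mathlib.CategoryTheory.Abelian.GrothendieckCategory.EnoughInjectives

/-!
# Modules killed by a closed ideal: sub- and quotient objects, exactness of `i^*` on them
-/

set_option autoImplicit false
universe u
open CategoryTheory CategoryTheory.Limits CategoryTheory.Abelian AlgebraicGeometry Opposite TopologicalSpace

namespace K695.KillCat

open Groth.Agent Groth.Agent.Fdesc.LocGen K695.SqZero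

variable {X : Scheme.{u}}

theorem enoughInjectives (X : Scheme.{u}) : EnoughInjectives X.Modules := by
  have : IsGrothendieckAbelian.{u} X.Modules := Groth.Agent.S0484.result _ X.ringCatSheaf
  infer_instance

variable {I : X.IdealSheafData}

/-- A section of the ideal module as a function. -/
noncomputable def ia {V : X.Opens} (a : Γ(ClSub.idealMod I, V)) : Γ(X, V) :=
  (show Γ(X, V) from (ClSub.idealModι I).app V a)

theorem ia_res {V W : X.Opens} (h : W ≤ V) (a : Γ(ClSub.idealMod I, V)) :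
    ia (res _ h a) = ores h (ia a) := by
  exact app_res (ClSub.idealModι I) h a

/-- `M` killed by `I` on all opens. -/
theorem smul_eq_zero {M : X.Modules} (hM : ClSub.KilledByIdeal I M) {V : X.Opens} (a : Γ(ClSub.idealMod I, V))
    (m : Γ(M, V)) : ia a • m = 0 := by
  refine Ega2.Tens.eq_of_locally_eq M _ _ fun x hx => ?_
  obtain ⟨_, ⟨W, hW, rfl⟩, hxW, hWV⟩ := X.isBasis_affineOpens.exists_subset_of_mem_open hx V.isOpen
  refine ⟨W, homOfLE hWV, hxW, ?_⟩
  have h1 : res M hWV (ia a • m) = ia (res _ hWV a) • res M hWV m := by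
    rw [res_smul, ia_res]
  have h2 : ia (res _ hWV a) ∈ I.ideal ⟨W, hW⟩ :=
    (CohqA.IdealMod.exists_idealModι_app_iff I ⟨W, hW⟩ _).1 ⟨res _ hWV a, rfl⟩
  have h3 : ia (res _ hWV a) • res M hWV m = 0 := hM ⟨W, hW⟩ _ h2 _
  exact h1.trans (h3.trans (map_zero (M.presheaf.map (homOfLE hWV).op).hom).symm)

theorem killed_of_smul {M : X.Modules}
    (h : ∀ (V : X.Opens) (a : Γ(ClSub.idealMod I, V)) (m : Γ(M, V)), ia a • m = 0) : ClSub.KilledByIdeal I M := by
  intro U a ha m
  obtain ⟨a', ha'⟩ := (CohqA.IdealMod.exists_idealModι_app_iff I U a).2 ha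
  rw [← ha']
  exact h U.1 a' m

theorem app_injective {M N : X.Modules} (f : M ⟶ N) [Mono f] (V : X.Opens) : Function.Injective (f.app V) :=
  Sga67.Sec.injective_of_mono f V

theorem exists_local_lift {M N : X.Modules} (f : M ⟶ N) [Epi f] {V : X.Opens} (n : Γ(N, V)) {x : X} (hx : x ∈ V) :
    ∃ (W : X.Opens) (h : W ≤ V), x ∈ W ∧ ∃ m : Γ(M, W), f.app W m = res N h n :=
  Sga67.Sec.locally_surjective_of_epi f n x hx

theorem killed_of_mono {M N : X.Modules} (f : N ⟶ M) [Mono f] (hM : ClSub.KilledByIdeal I M) :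
    ClSub.KilledByIdeal I N := by
  refine killed_of_smul fun V a m => ?_
  apply app_injective f V
  exact (Scheme.Modules.Hom.app_smul f _ _).trans ((smul_eq_zero hM a _).trans (map_zero _).symm)

theorem killed_of_epi {M N : X.Modules} (f : M ⟶ N) [Epi f] (hM : ClSub.KilledByIdeal I M) :
    ClSub.KilledByIdeal I N := by
  refine killed_of_smul fun V a m => ?_
  refine Ega2.Tens.eq_of_locally_eq N _ _ fun x hx => ?_
  obtain ⟨W, h, hxW, m', hm'⟩ := exists_local_lift f m hx
  refine ⟨W, homOfLE h, hxW, ?_⟩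
  have h1 : res N h (ia a • m) = ia (res _ h a) • res N h m := by
    rw [res_smul, ia_res]
  have h2 : ia (res _ h a) • f.app W m' = 0 :=
    (Scheme.Modules.Hom.app_smul f _ _).symm.trans ((congrArg _ (smul_eq_zero hM _ m')).trans (map_zero _))
  rw [hm'] at h2
  exact h1.trans (h2.trans (map_zero (N.presheaf.map (homOfLE h).op).hom).symm)

/-- `i^*` is exact on the modules killed by `I`. -/
theorem shortExact_pb {S : ShortComplex X.Modules} (hS : S.ShortExact) (h₂ : ClSub.KilledByIdeal I S.X₂) :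
    (S.map (pb I)).ShortExact := by
  have := hS.epi_g
  have := hS.mono_f
  have h₁ : ClSub.KilledByIdeal I S.X₁ := killed_of_mono S.f h₂
  have hmono : Mono ((pb I).map S.f) := by
    have h1 : Mono ((ps I).map ((pb I).map S.f)) := by
      let e1 : S.X₁ ≅ (ps I).obj ((pb I).obj S.X₁) := @asIso _ _ _ _ (η I S.X₁) (isIso_η h₁)
      let e2 : S.X₂ ≅ (ps I).obj ((pb I).obj S.X₂) := @asIso _ _ _ _ (η I S.X₂) (isIso_η h₂)
      have h2 : (ps I).map ((pb I).map S.f) = e1.inv ≫ S.f ≫ e2.hom := by
        rw [Iso.eq_inv_comp]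
        exact η_naturality (I := I) S.f
      rw [h2]
      infer_instance
    refine ⟨fun a b hab => ?_⟩
    apply Sga2lef.H96.ModSysPush.map_injective I
    have h2 := congrArg (ps I).map hab
    rw [Functor.map_comp, Functor.map_comp] at h2
    exact h1.right_cancellation _ _ h2
  exact
    { exact := hS.exact.map_of_epi_of_preservesCokernel (pb I) hS.epi_g inferInstance
      mono_f := hmono
      epi_g := by
        change Epi ((pb I).map S.g)
        infer_instance }

/-- Splitting of an extension whose pullback is exact. -/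
theorem exists_section_of [HasExt.{u} I.subscheme.Modules] {S : ShortComplex X.Modules} (hS : S.ShortExact)
    (hT : (S.map (pb I)).ShortExact) (h₁ : ClSub.KilledByIdeal I S.X₁)
    (hext : Subsingleton (Ext.{u} ((pb I).obj S.X₃) ((pb I).obj S.X₁) 1)) :
    ∃ s : S.X₃ ⟶ S.X₂, s ≫ S.g = 𝟙 _ := by
  obtain ⟨s₀, hs₀⟩ := ExtSplit.exists_section hT hext
  obtain ⟨r₀, hr₀⟩ := ExtSplit.exists_retraction hT s₀ hs₀
  obtain ⟨j, hj, -⟩ := (isIso_η h₁).out
  refine ExtSplit.exists_section_of_retraction hS (η I S.X₂ ≫ (ps I).map r₀ ≫ j) ?_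
  have h1 : S.f ≫ η I S.X₂ = η I S.X₁ ≫ (ps I).map ((pb I).map S.f) := (η_naturality S.f).symm
  have h2 : (ps I).map ((pb I).map S.f) ≫ (ps I).map r₀ = 𝟙 _ := by
    rw [← Functor.map_comp]
    exact (congrArg (ps I).map hr₀).trans (CategoryTheory.Functor.map_id _ _)
  rw [reassoc_of% h1, reassoc_of% h2]
  exact hj

end K695.KillCat
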