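import Groth.Agent.Lift.K695.SubSh
import Groth.Agent.Lift.K695.InjExt
import Groth.Agent.Lift.K695.KillCat
import Groth.Agent.Pic13.H126.ThickH1

/-!
# Extensions with given multiplication by a square-zero ideal

`b : I × Q → M` a bilinear pairing of `O_X`-modules, `κ : M ⟶ K` a monomorphism into an injective module.
`EK ⊆ K ⊕ Q` is the submodule of the `(t, e)` with `a t = κ b(a, e)` for all `a ∈ I`.
-/

set_option autoImplicit false
universe u
open CategoryTheory CategoryTheory.Limits CategoryTheory.Abelian AlgebraicGeometry Opposite TopologicalSpace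

namespace K695.ExtMult

open Groth.Agent Groth.Agent.Fdesc.LocGen K695.InjExt K695.SqZero K695.KillCat

attribute [local instance] Abelian.hasFiniteBiproducts

variable {X : Scheme.{u}}

/-- A bilinear pairing `A × Q → M`. -/
structure Pairing (A Q M : X.Modules) where
  /-- the pairing -/
  b : ∀ V : X.Opens, Γ(A, V) → Γ(Q, V) → Γ(M, V)
  add_left : ∀ (V : X.Opens) (a a' : Γ(A, V)) (e : Γ(Q, V)), b V (a + a') e = b V a e + b V a' e
  add_right : ∀ (V : X.Opens) (a : Γ(A, V)) (e e' : Γ(Q, V)), b V a (e + e') = b V a e + b V a e'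
  smul_left : ∀ (V : X.Opens) (r : Γ(X, V)) (a : Γ(A, V)) (e : Γ(Q, V)), b V (r • a) e = r • b V a e
  smul_right : ∀ (V : X.Opens) (r : Γ(X, V)) (a : Γ(A, V)) (e : Γ(Q, V)), b V a (r • e) = r • b V a e
  nat : ∀ (V W : X.Opens) (h : W ≤ V) (a : Γ(A, V)) (e : Γ(Q, V)),
    b W (res A h a) (res Q h e) = res M h (b V a e)

variable {I : X.IdealSheafData} {Q M K : X.Modules} (β : Pairing (ClSub.idealMod I) Q M) (κ : M ⟶ K)

theorem b_zero_right {A Q M : X.Modules} (β : Pairing A Q M) (V : X.Opens) (a : Γ(A, V)) : β.b V a 0 = 0 := by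
  have h := β.add_right V a 0 0
  rw [add_zero] at h
  exact left_eq_add.1 h

/-- The predicate defining `EK`. -/
noncomputable def pred : SubSh.LocPred (K ⊞ Q) where
  P V s := ∀ (W : X.Opens) (h : W ≤ V) (a : Γ(ClSub.idealMod I, W)),
    ia a • res K h ((biprod.fst : K ⊞ Q ⟶ K).app V s) =
      κ.app W (β.b W a (res Q h ((biprod.snd : K ⊞ Q ⟶ Q).app V s)))
  zero V W h a := by
    rw [map_zero, map_zero, map_zero, map_zero, smul_zero, b_zero_right, map_zero]
  add {V s t} hs ht W h a := by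
    rw [map_add, map_add, map_add, map_add, smul_add, hs W h a, ht W h a, β.add_right, map_add]
  smul {V} r {s} hs W h a := by
    have e1 : (biprod.fst : K ⊞ Q ⟶ K).app V (r • s) = r • (biprod.fst : K ⊞ Q ⟶ K).app V s :=
      Scheme.Modules.Hom.app_smul _ _ _
    have e2 : (biprod.snd : K ⊞ Q ⟶ Q).app V (r • s) = r • (biprod.snd : K ⊞ Q ⟶ Q).app V s :=
      Scheme.Modules.Hom.app_smul _ _ _
    rw [e1, e2, res_smul, res_smul, smul_comm, hs W h a, β.smul_right]
    exact (Scheme.Modules.Hom.app_smul _ _ _).symm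
  map {V W} h {s} hs W' h' a := by
    rw [app_res, app_res, res_res, res_res]
    exact hs W' (h'.trans h) a
  loc {V s} H W h a := by
    refine Ega2.Tens.eq_of_locally_eq K _ _ fun x hx => ?_
    obtain ⟨W', h', hx', H'⟩ := H x (h hx)
    refine ⟨W ⊓ W', homOfLE inf_le_left, ⟨hx, hx'⟩, ?_⟩
    have h1 := H' (W ⊓ W') inf_le_right (res _ inf_le_left a)
    rw [app_res, app_res, res_res, res_res] at h1
    change res K inf_le_left _ = res K inf_le_left _
    rw [res_smul, res_res, ← ia_res]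
    refine h1.trans ?_
    rw [← app_res κ, ← β.nat, res_res]

/-- The module `EK`. -/
noncomputable def EK : X.Modules := SubSh.mod (pred β κ)

/-- `EK ⟶ K` -/
noncomputable def τ : EK β κ ⟶ K := SubSh.incl (pred β κ) ≫ biprod.fst

/-- `EK ⟶ Q` -/
noncomputable def π : EK β κ ⟶ Q := SubSh.incl (pred β κ) ≫ biprod.snd

theorem rel {V : X.Opens} (s : Γ(EK β κ, V)) (a : Γ(ClSub.idealMod I, V)) :
    ia a • (τ β κ).app V s = κ.app V (β.b V a ((π β κ).app V s)) := by
  have h := SubSh.incl_app_mem (pred β κ) V s V le_rfl a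
  rw [res_refl, res_refl] at h
  exact h

theorem biprod_ext {V : X.Opens} {s t : Γ(K ⊞ Q, V)}
    (h1 : (biprod.fst : K ⊞ Q ⟶ K).app V s = (biprod.fst : K ⊞ Q ⟶ K).app V t)
    (h2 : (biprod.snd : K ⊞ Q ⟶ Q).app V s = (biprod.snd : K ⊞ Q ⟶ Q).app V t) : s = t := by
  have key : ∀ s : Γ(K ⊞ Q, V), s = (biprod.inl : K ⟶ K ⊞ Q).app V ((biprod.fst : K ⊞ Q ⟶ K).app V s) +
      (biprod.inr : Q ⟶ K ⊞ Q).app V ((biprod.snd : K ⊞ Q ⟶ Q).app V s) := fun s =>
    congr(($(biprod.total (X := K) (Y := Q))).app V s).symm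
  rw [key s, key t, h1, h2]

theorem ek_ext {V : X.Opens} {s t : Γ(EK β κ, V)} (h1 : (τ β κ).app V s = (τ β κ).app V t)
    (h2 : (π β κ).app V s = (π β κ).app V t) : s = t :=
  SubSh.incl_app_injective (pred β κ) V (biprod_ext h1 h2)

theorem exists_ek {V : X.Opens} (t : Γ(K, V)) (e : Γ(Q, V))
    (h : ∀ (W : X.Opens) (h : W ≤ V) (a : Γ(ClSub.idealMod I, W)),
      ia a • res K h t = κ.app W (β.b W a (res Q h e))) :
    ∃ s : Γ(EK β κ, V), (τ β κ).app V s = t ∧ (π β κ).app V s = e := by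
  let s : Γ(K ⊞ Q, V) := (biprod.inl : K ⟶ K ⊞ Q).app V t + (biprod.inr : Q ⟶ K ⊞ Q).app V e
  have h1 : (biprod.fst : K ⊞ Q ⟶ K).app V s = t := by
    have e1 : (biprod.fst : K ⊞ Q ⟶ K).app V ((biprod.inl : K ⟶ K ⊞ Q).app V t) = t :=
      congr(($(biprod.inl_fst (X := K) (Y := Q))).app V t)
    have e2 : (biprod.fst : K ⊞ Q ⟶ K).app V ((biprod.inr : Q ⟶ K ⊞ Q).app V e) = 0 :=
      congr(($(biprod.inr_fst (X := K) (Y := Q))).app V e)
    exact (map_add _ _ _).trans (by rw [e1, e2, add_zero])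
  have h2 : (biprod.snd : K ⊞ Q ⟶ Q).app V s = e := by
    have e1 : (biprod.snd : K ⊞ Q ⟶ Q).app V ((biprod.inl : K ⟶ K ⊞ Q).app V t) = 0 :=
      congr(($(biprod.inl_snd (X := K) (Y := Q))).app V t)
    have e2 : (biprod.snd : K ⊞ Q ⟶ Q).app V ((biprod.inr : Q ⟶ K ⊞ Q).app V e) = e :=
      congr(($(biprod.inr_snd (X := K) (Y := Q))).app V e)
    exact (map_add _ _ _).trans (by rw [e1, e2, zero_add])
  obtain ⟨z, hz⟩ := SubSh.exists_incl_app (pred β κ) (V := V) (s := s) (fun W h' a => by rw [h1, h2]; exact h W h' a)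
  refine ⟨z, ?_, ?_⟩
  · exact (congrArg _ hz).trans h1
  · exact (congrArg _ hz).trans h2

/-- `EK ⟶ Q` is surjective on sections. -/
theorem exists_π [Injective K] {U : X.Opens} (e : Γ(Q, U)) : ∃ s : Γ(EK β κ, U), (π β κ).app U s = e := by
  have : Mono (ClSub.idealModι I) := equalizer.ι_mono (C := X.Modules)
  obtain ⟨t, ht⟩ := exists_section (K := K) (ClSub.idealModι I) U
    (fun W h => AddMonoidHom.mk' (fun a => κ.app W (β.b W a (res Q h e)))
      (fun a a' => by rw [β.add_left, map_add]))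
    (fun W h r a => by
      change κ.app W (β.b W (r • a) (res Q h e)) = r • κ.app W (β.b W a (res Q h e))
      rw [β.smul_left]
      exact Scheme.Modules.Hom.app_smul _ _ _)
    (fun W W' h h' a => by
      change κ.app W' (β.b W' (res _ h' a) (res Q _ e)) = res K h' (κ.app W (β.b W a (res Q h e)))
      rw [← app_res, ← β.nat, res_res])
  obtain ⟨s, -, hs⟩ := exists_ek β κ t e ht
  exact ⟨s, hs⟩

section

variable (hQ : ClSub.KilledByIdeal I Q)

/-- A morphism `N ⟶ K`, `N` killed by `I`, as a morphism `N ⟶ EK`. -/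
theorem exists_liftK {N : X.Modules} (hN : ClSub.KilledByIdeal I N) (h : N ⟶ K) :
    ∃ g : N ⟶ EK β κ, g ≫ τ β κ = h ∧ g ≫ π β κ = 0 := by
  have hmem : ∀ (V : X.Opens) (s : Γ(N, V)), (pred β κ).P V ((h ≫ biprod.inl).app V s) := by
    intro V s W hW a
    have e1 : (biprod.fst : K ⊞ Q ⟶ K).app V ((h ≫ biprod.inl).app V s) = h.app V s :=
      congr(($(biprod.inl_fst (X := K) (Y := Q))).app V (h.app V s))
    have e2 : (biprod.snd : K ⊞ Q ⟶ Q).app V ((h ≫ biprod.inl).app V s) = 0 :=
      congr(($(biprod.inl_snd (X := K) (Y := Q))).app V (h.app V s))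
    rw [e1, e2, map_zero, b_zero_right, map_zero, ← app_res]
    exact (Scheme.Modules.Hom.app_smul h _ _).symm.trans
      ((congrArg _ (smul_eq_zero hN a _)).trans (map_zero _))
  have hg : SubSh.lift (h ≫ biprod.inl) hmem ≫ SubSh.incl (pred β κ) = h ≫ biprod.inl := SubSh.lift_incl _ _
  refine ⟨SubSh.lift (h ≫ biprod.inl) hmem, ?_, ?_⟩
  · refine (Category.assoc _ _ _).symm.trans ((congrArg (· ≫ (biprod.fst : K ⊞ Q ⟶ K)) hg).trans ?_)
    rw [Category.assoc, biprod.inl_fst, Category.comp_id]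
  · refine (Category.assoc _ _ _).symm.trans ((congrArg (· ≫ (biprod.snd : K ⊞ Q ⟶ Q)) hg).trans ?_)
    rw [Category.assoc, biprod.inl_snd, comp_zero]

theorem ek_hom_ext {N : X.Modules} {f g : N ⟶ EK β κ} (h1 : f ≫ τ β κ = g ≫ τ β κ) (h2 : f ≫ π β κ = g ≫ π β κ) :
    f = g := by
  apply Scheme.Modules.hom_ext
  intro V
  ext s
  exact ek_ext β κ congr(($h1).app V s) congr(($h2).app V s)

include hQ in
theorem smul_ek {α : M ⟶ EK β κ} (hα1 : α ≫ τ β κ = κ) (hα2 : α ≫ π β κ = 0) {V : X.Opens} (s : Γ(EK β κ, V))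
    (a : Γ(ClSub.idealMod I, V)) : ia a • s = α.app V (β.b V a ((π β κ).app V s)) := by
  apply ek_ext β κ
  · have h1 : (τ β κ).app V (ia a • s) = ia a • (τ β κ).app V s := Scheme.Modules.Hom.app_smul _ _ _
    rw [h1]
    exact (rel β κ s a).trans congr(($hα1).app V _).symm
  · have h1 : (π β κ).app V (ia a • s) = ia a • (π β κ).app V s := Scheme.Modules.Hom.app_smul _ _ _
    rw [h1, smul_eq_zero hQ]
    exact congr(($hα2).app V _).symm

/-- The kernel of `π` is killed by `I`. -/
theorem killed_ker {α : M ⟶ EK β κ} (hQ : ClSub.KilledByIdeal I Q)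
    (hα1 : α ≫ τ β κ = κ) (hα2 : α ≫ π β κ = 0) : ClSub.KilledByIdeal I (kernel (π β κ)) := by
  refine killed_of_smul fun V a m => ?_
  apply app_injective (kernel.ι (π β κ)) V
  have h1 : (kernel.ι (π β κ)).app V (ia a • m) = ia a • (kernel.ι (π β κ)).app V m :=
    Scheme.Modules.Hom.app_smul _ _ _
  have h2 : (π β κ).app V ((kernel.ι (π β κ)).app V m) = 0 := congr(($(kernel.condition (π β κ))).app V m)
  rw [h1, smul_ek β κ hQ hα1 hα2, h2, b_zero_right, map_zero, map_zero]

/-- **The `I`-torsion of an injective module is injective on the closed subscheme.** -/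
theorem injective_pb [Injective K] (hJ : ClSub.KilledByIdeal I (kernel (π β κ))) :
    Injective ((pb I).obj (kernel (π β κ))) := by
  let e : kernel (π β κ) ≅ (ps I).obj ((pb I).obj (kernel (π β κ))) := @asIso _ _ _ _ (η I _) (isIso_η hJ)
  refine ⟨fun {A B} g f _ => ?_⟩
  have hf : Mono ((ps I).map f) := inferInstance
  let h₁ : (ps I).obj A ⟶ K := (ps I).map g ≫ e.inv ≫ kernel.ι (π β κ) ≫ τ β κ
  obtain ⟨h₃, h31, h32⟩ := exists_liftK β κ (killed_ps B) (Injective.factorThru h₁ ((ps I).map f))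
  obtain ⟨g', hg'⟩ := Sga2lef.H96.ModSysPush.exists_map_eq I (kernel.lift (π β κ) h₃ h32 ≫ e.hom)
  refine ⟨g', Sga2lef.H96.ModSysPush.map_injective I ?_⟩
  rw [Functor.map_comp]
  refine (congrArg ((ps I).map f ≫ ·) hg').trans ?_
  change (ps I).map f ≫ kernel.lift (π β κ) h₃ h32 ≫ e.hom = _
  rw [← Category.assoc, ← Iso.eq_comp_inv, ← cancel_mono (kernel.ι (π β κ))]
  rw [Category.assoc, kernel.lift_ι]
  apply ek_hom_ext
  · rw [Category.assoc, h31, Injective.comp_factorThru]
    simp only [h₁, Category.assoc]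
  · rw [Category.assoc, h32, comp_zero, Category.assoc, Category.assoc, kernel.condition, comp_zero, comp_zero]

end

/-- **Extensions with given multiplication.** If `Ext²(i^* Q, i^* M) = 0`, every pairing `b : I × Q → M` of modules
killed by `I` is the multiplication of an extension `0 ⟶ M ⟶ E ⟶ Q ⟶ 0`. -/
theorem exists_extension [HasExt.{u} I.subscheme.Modules] {Q M : X.Modules} (β : Pairing (ClSub.idealMod I) Q M)
    (hM : ClSub.KilledByIdeal I M) (hQ : ClSub.KilledByIdeal I Q)
    (h2 : Subsingleton (Ext.{u} ((pb I).obj Q) ((pb I).obj M) 2)) :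
    ∃ (E : X.Modules) (j : M ⟶ E) (p : E ⟶ Q) (w : j ≫ p = 0), (ShortComplex.mk j p w).ShortExact ∧
      ∀ (V : X.Opens) (a : Γ(ClSub.idealMod I, V)) (s : Γ(E, V)), ia a • s = j.app V (β.b V a (p.app V s)) := by
  have := enoughInjectives X
  let K : X.Modules := Injective.under M
  let κ : M ⟶ K := Injective.ι M
  obtain ⟨α, hα1, hα2⟩ := exists_liftK β κ hM κ
  have hαm : Mono α := by
    have : Mono (α ≫ τ β κ) := by rw [hα1]; infer_instance
    exact mono_of_mono α (τ β κ)
  have hπ : Epi (π β κ) := Sga67.Sec.epi_of_locally_surjective _ fun U s x hx =>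
    ⟨U, le_rfl, hx, by
      obtain ⟨t, ht⟩ := exists_π β κ (s : Γ(Q, U))
      exact ⟨t, ht.trans (res_refl Q s).symm⟩⟩
  have hJ := killed_ker β κ hQ hα1 hα2
  have hJinj := injective_pb β κ hJ
  let q : EK β κ ⟶ cokernel α := cokernel.π α
  let π' : cokernel α ⟶ Q := cokernel.desc α (π β κ) hα2
  have hqπ : q ≫ π' = π β κ := cokernel.π_desc _ _ _
  have hπ' : Epi π' := by
    have : Epi (q ≫ π') := by rw [hqπ]; exact hπ
    exact epi_of_epi q π'
  -- the quotient is killed by `I`
  have hR : ClSub.KilledByIdeal I (cokernel α) := by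
    refine killed_of_smul fun V a m => ?_
    refine Ega2.Tens.eq_of_locally_eq (cokernel α) _ _ fun x hx => ?_
    obtain ⟨W, h, hxW, s, hs⟩ := exists_local_lift q m hx
    refine ⟨W, homOfLE h, hxW, ?_⟩
    have h3 : res (cokernel α) h (ia a • m) = ia (res _ h a) • res (cokernel α) h m := by
      rw [res_smul, ia_res]
    have h4 : q.app W (ia (res _ h a) • s) = ia (res _ h a) • q.app W s := Scheme.Modules.Hom.app_smul _ _ _
    have h5 : q.app W (ia (res _ h a) • s) = 0 := by
      rw [smul_ek β κ hQ hα1 hα2]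
      exact congr(($(cokernel.condition α)).app W _)
    rw [hs, h5] at h4
    exact h3.trans (h4.symm.trans (map_zero ((cokernel α).presheaf.map (homOfLE h).op).hom).symm)
  have hS0 : (ShortComplex.mk α q (cokernel.condition α)).ShortExact :=
    { exact := ShortComplex.exact_cokernel α }
  let eM : kernel q ≅ M := IsLimit.conePointUniqueUpToIso (kernelIsKernel q) hS0.fIsKernel
  obtain ⟨S, hS, e1, e2, e3⟩ := Pic13.H126.ThickH1.exists_shortExact q π'
  have hS2 : ClSub.KilledByIdeal I S.X₂ := by rw [e2, hqπ]; exact hJ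
  have hinj : Injective ((pb I).obj S.X₂) := by rw [e2, hqπ]; exact hJinj
  have hker : ClSub.KilledByIdeal I (kernel π') := killed_of_mono (kernel.ι π') hR
  have hext : Subsingleton (Ext.{u} ((pb I).obj Q) ((pb I).obj (kernel π')) 1) := by
    have h3 := ExtSplit.subsingleton_ext (shortExact_pb hS hS2) ((pb I).obj Q) 1
      (@Ext.subsingleton_of_injective _ _ _ _ _ _ hinj 0) (by
        change Subsingleton (Ext.{u} ((pb I).obj Q) ((pb I).obj S.X₁) 2)
        rw [e1]
        exact ExtSplit.subsingleton_ext_of_iso_right ((pb I).mapIso eM.symm) 2 h2)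
    change Subsingleton (Ext.{u} ((pb I).obj Q) ((pb I).obj S.X₃) 1) at h3
    rwa [e3] at h3
  have hT : (ShortComplex.mk (kernel.ι π') π' (kernel.condition π')).ShortExact :=
    { exact := ShortComplex.exact_kernel π' }
  obtain ⟨σ, hσ⟩ := exists_section_of hT (shortExact_pb hT hR) hker hext
  have hσ' : σ ≫ π' = 𝟙 Q := hσ
  have hσm : Mono σ := by
    have : Mono (σ ≫ π') := by rw [hσ']; infer_instance
    exact mono_of_mono σ π'
  -- the extension
  let ιE : pullback q σ ⟶ EK β κ := pullback.fst q σ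
  let p : pullback q σ ⟶ Q := pullback.snd q σ
  have hιp : ιE ≫ q = p ≫ σ := pullback.condition
  have hιE : Mono ιE := inferInstanceAs (Mono (pullback.fst q σ))
  have hp : Epi p := inferInstanceAs (Epi (pullback.snd q σ))
  have hpπ : ιE ≫ π β κ = p := by
    rw [← hqπ, reassoc_of% hιp, hσ', Category.comp_id]
  let j : M ⟶ pullback q σ := pullback.lift α 0 (by rw [zero_comp]; exact cokernel.condition α)
  have hj1 : j ≫ ιE = α := pullback.lift_fst _ _ _
  have hj2 : j ≫ p = 0 := pullback.lift_snd _ _ _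
  refine ⟨pullback q σ, j, p, hj2, ?_, ?_⟩
  · have hjm : Mono j := by
      have : Mono (j ≫ ιE) := by rw [hj1]; exact hαm
      exact mono_of_mono j ιE
    have hex : (ShortComplex.mk j p hj2).Exact := by
      refine Sga67.Sec.exact_of_locally fun U s hs x hx => ⟨U, le_rfl, hx, ?_⟩
      have h1 : q.app U (ιE.app U s) = 0 := by
        have h3 : q.app U (ιE.app U s) = σ.app U (p.app U s) := congr(($hιp).app U s)
        have h4 : p.app U s = 0 := hs
        rw [h3, h4, map_zero]
      obtain ⟨m, hm⟩ := Sga67.Sec.exists_of_appS_eq_zero hS0.exact (ιE.app U s) h1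
      refine ⟨m, (app_injective ιE U ?_).trans (res_refl (pullback q σ) s).symm⟩
      have h5 : ιE.app U (j.app U m) = α.app U m := congr(($hj1).app U m)
      exact h5.trans hm
    exact { exact := hex }
  · intro V a s
    apply app_injective ιE V
    have h1 : ιE.app V (ia a • s) = ia a • ιE.app V s := Scheme.Modules.Hom.app_smul _ _ _
    have h3 : (π β κ).app V (ιE.app V s) = p.app V s := congr(($hpπ).app V s)
    have h5 : ιE.app V (j.app V (β.b V a (p.app V s))) = α.app V (β.b V a (p.app V s)) := congr(($hj1).app V _)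
    rw [h1, smul_ek β κ hQ hα1 hα2, h3]
    exact h5.symm

end K695.ExtMult
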