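import Mathlib.RingTheory.Flat.EquationalCriterion
import Mathlib.RingTheory.Noetherian.Basic
import Mathlib.RingTheory.RingHom.Flat
import Mathlib.LinearAlgebra.Dimension.Free
import Mathlib.LinearAlgebra.Basis.VectorSpace
import Mathlib.LinearAlgebra.FreeModule.Finite.Basic
import Mathlib.Algebra.Module.Torsion.Basic
import Mathlib.RingTheory.Ideal.Quotient.Operations

/-!
# The graded pieces of a flat algebra

`A` a ring, `I` a maximal ideal with `I^(n+1)/I^(n+2)` finite: there are `x₁, …, x_r ∈ I^(n+1)` such that for every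
flat `A`-algebra `B` the map `B^r → I^(n+1)B`, `b ↦ Σ b_j x_j` induces `(B/IB)^r ≅ I^(n+1)B/I^(n+2)B`.
-/

set_option autoImplicit false
universe u v

namespace K695.GrAlg

open Module

variable {A : Type u} [CommRing A]

/-- Elements `x_j` of `M` whose classes form a basis of `M/IM`. -/
theorem exists_basis (I : Ideal A) [I.IsMaximal] {M : Type v} [AddCommGroup M] [Module A M] [Module.Finite A M] :
    ∃ (r : ℕ) (x : Fin r → M), (∀ a : Fin r → A, (∑ j, a j • x j) ∈ I • (⊤ : Submodule A M) → ∀ j, a j ∈ I) ∧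
      ∀ m : M, ∃ a : Fin r → A, m - ∑ j, a j • x j ∈ I • (⊤ : Submodule A M) := by
  let _ : Field (A ⧸ I) := Ideal.Quotient.field I
  let V := M ⧸ (I • ⊤ : Submodule A M)
  have hfree : Module.Free (A ⧸ I) V := Module.Free.of_divisionRing (A ⧸ I) V
  have h1 : Module.Finite (A ⧸ I) V := by
    have : Module.Finite A V := inferInstance
    exact Module.Finite.of_restrictScalars_finite A (A ⧸ I) V
  let b : Basis (Fin (finrank (A ⧸ I) V)) (A ⧸ I) V := Module.finBasis (A ⧸ I) V
  choose x hx using fun j => Submodule.Quotient.mk_surjective (I • ⊤ : Submodule A M) (b j)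
  have hsum : ∀ a : Fin (finrank (A ⧸ I) V) → A, (Submodule.Quotient.mk (∑ j, a j • x j) : V) =
      ∑ j, (Ideal.Quotient.mk I (a j)) • b j := by
    intro a
    rw [← Submodule.mkQ_apply, map_sum]
    refine Finset.sum_congr rfl fun j _ => ?_
    rw [map_smul, Submodule.mkQ_apply, hx j]
    rfl
  refine ⟨_, x, fun a ha j => ?_, fun m => ?_⟩
  · have h2 := (Submodule.Quotient.mk_eq_zero _).2 ha
    have h3 := (hsum a).symm.trans h2
    have h4 := Fintype.linearIndependent_iff.1 b.linearIndependent _ h3 j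
    exact Ideal.Quotient.eq_zero_iff_mem.1 h4
  · choose a ha using fun j => Ideal.Quotient.mk_surjective (b.repr (Submodule.Quotient.mk m) j)
    refine ⟨a, ?_⟩
    rw [← Submodule.Quotient.mk_eq_zero, Submodule.Quotient.mk_sub, hsum a, sub_eq_zero]
    rw [Finset.sum_congr rfl fun j _ => congrArg (· • b j) (ha j)]
    exact (b.sum_repr _).symm

/-- `x₁, …, x_r ∈ J` form a basis of `J / I J`. -/
structure IsGrBasis (I J : Ideal A) {r : ℕ} (x : Fin r → A) : Prop where
  mem : ∀ j, x j ∈ J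
  indep : ∀ a : Fin r → A, (∑ j, a j * x j) ∈ I * J → ∀ j, a j ∈ I
  span : ∀ m ∈ J, ∃ a : Fin r → A, m - ∑ j, a j * x j ∈ I * J

theorem exists_isGrBasis (I J : Ideal A) [I.IsMaximal] (hJ : J.FG) :
    ∃ (r : ℕ) (x : Fin r → A), IsGrBasis I J x := by
  have : Module.Finite A J := Module.Finite.iff_fg.2 hJ
  obtain ⟨r, x, h1, h2⟩ := exists_basis I (M := J)
  have key : ∀ y : J, y ∈ I • (⊤ : Submodule A J) ↔ (y : A) ∈ I * J := by
    intro y
    have h3 : Submodule.map (Submodule.subtype J) (I • (⊤ : Submodule A J)) = I * J := by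
      rw [Submodule.map_smul'', Submodule.map_subtype_top, smul_eq_mul]
    rw [← h3, Submodule.mem_map]
    exact ⟨fun h => ⟨y, h, rfl⟩, fun ⟨z, hz, e⟩ => by rwa [← Subtype.ext e]⟩
  refine ⟨r, fun j => x j, fun j => (x j).2, fun a ha => h1 a ?_, fun m hm => ?_⟩
  · rw [key]
    simpa using ha
  · obtain ⟨a, ha⟩ := h2 ⟨m, hm⟩
    refine ⟨a, ?_⟩
    rw [key] at ha
    simpa using ha

variable {I J : Ideal A} {r : ℕ} {x : Fin r → A} {B : Type v} [CommRing B]

theorem IsGrBasis.span_map [Algebra A B] (h : IsGrBasis I J x) (m : B) (hm : m ∈ J.map (algebraMap A B)) :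
    ∃ b : Fin r → B, m - ∑ j, b j * algebraMap A B (x j) ∈ (I * J).map (algebraMap A B) := by
  induction hm using Submodule.span_induction with
  | mem m hm =>
    obtain ⟨y, hy, rfl⟩ := hm
    obtain ⟨a, ha⟩ := h.span y hy
    refine ⟨fun j => algebraMap A B (a j), ?_⟩
    have := Ideal.mem_map_of_mem (algebraMap A B) ha
    simpa using this
  | zero => exact ⟨0, by simp⟩
  | add y z _ _ hy hz =>
    obtain ⟨b, hb⟩ := hy
    obtain ⟨c, hc⟩ := hz
    refine ⟨b + c, ?_⟩
    have : y + z - ∑ j, (b + c) j * algebraMap A B (x j) =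
        (y - ∑ j, b j * algebraMap A B (x j)) + (z - ∑ j, c j * algebraMap A B (x j)) := by
      simp only [Pi.add_apply, add_mul, Finset.sum_add_distrib]
      ring
    rw [this]
    exact add_mem hb hc
  | smul c y _ hy =>
    obtain ⟨b, hb⟩ := hy
    refine ⟨fun j => c * b j, ?_⟩
    have : c • y - ∑ j, (c * b j) * algebraMap A B (x j) = c * (y - ∑ j, b j * algebraMap A B (x j)) := by
      rw [mul_sub, Finset.mul_sum]
      simp only [mul_assoc, smul_eq_mul]
    rw [this]
    exact Ideal.mul_mem_left _ _ hb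

theorem IsGrBasis.indep_map [Algebra A B] [Module.Flat A B] (h : IsGrBasis I J x) (b : Fin r → B)
    (hb : ∑ j, b j * algebraMap A B (x j) ∈ (I * J).map (algebraMap A B)) (j : Fin r) :
    b j ∈ I.map (algebraMap A B) := by
  obtain ⟨n, c, g, hg⟩ := (Submodule.mem_span_set').1 hb
  choose y hy hy' using fun k => (g k).2
  have h1 : ∑ k : Fin r ⊕ Fin n, (Sum.elim x (fun k => - y k) k) • (Sum.elim b c k) = 0 := by
    rw [Fintype.sum_sum_type]
    simp only [Sum.elim_inl, Sum.elim_inr, Algebra.smul_def, map_neg, neg_mul, Finset.sum_neg_distrib]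
    rw [add_neg_eq_zero]
    calc ∑ j, algebraMap A B (x j) * b j = ∑ j, b j * algebraMap A B (x j) :=
          Finset.sum_congr rfl fun j _ => mul_comm _ _
      _ = ∑ k, c k • (g k : B) := hg.symm
      _ = ∑ k, algebraMap A B (y k) * c k := Finset.sum_congr rfl fun k _ => by
          rw [hy' k, smul_eq_mul, mul_comm]
  obtain ⟨k, a, z, h2, h3⟩ := Module.Flat.isTrivialRelation_of_sum_smul_eq_zero h1
  have h4 : ∀ l, a (Sum.inl j) l ∈ I := by
    intro l
    refine h.indep (fun j => a (Sum.inl j) l) ?_ j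
    have h5 := h3 l
    rw [Fintype.sum_sum_type] at h5
    simp only [Sum.elim_inl, Sum.elim_inr, neg_mul, Finset.sum_neg_distrib] at h5
    rw [add_neg_eq_zero] at h5
    rw [Finset.sum_congr rfl fun j _ => mul_comm _ _, h5]
    exact Ideal.sum_mem _ fun k _ => Ideal.mul_mem_right _ _ (hy k)
  have h6 : b j = ∑ l, a (Sum.inl j) l • z l := h2 (Sum.inl j)
  rw [h6]
  refine Ideal.sum_mem _ fun l _ => ?_
  rw [Algebra.smul_def]
  exact Ideal.mul_mem_right _ _ (Ideal.mem_map_of_mem _ (h4 l))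

theorem IsGrBasis.span_ringHom (h : IsGrBasis I J x) (φ : A →+* B) (m : B) (hm : m ∈ J.map φ) :
    ∃ b : Fin r → B, m - ∑ j, b j * φ (x j) ∈ (I * J).map φ := by
  let _ : Algebra A B := φ.toAlgebra
  exact h.span_map m hm

theorem IsGrBasis.indep_ringHom (h : IsGrBasis I J x) (φ : A →+* B) (hφ : φ.Flat) (b : Fin r → B)
    (hb : ∑ j, b j * φ (x j) ∈ (I * J).map φ) (j : Fin r) : b j ∈ I.map φ := by
  let _ : Algebra A B := φ.toAlgebra
  have : Module.Flat A B := hφ
  exact h.indep_map b hb j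

end K695.GrAlg
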