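import Mathlib.RingTheory.Regular.RegularSequence
import Mathlib.RingTheory.Flat.TorsionFree
import Mathlib.RingTheory.DiscreteValuationRing.Basic
import Mathlib.RingTheory.RingHom.Flat

/-!
# Lifting regular sequences along powers of a non-zero-divisor: algebra

`Reg 𝔞 fs`: the sequence `fs` is weakly regular on `B / 𝔞`.
-/

set_option autoImplicit false
universe u v

namespace K695.LciAlg

open RingTheory.Sequence
open scoped Pointwise

variable {B : Type u} [CommRing B]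

/-- `f` is a non-zero-divisor modulo `𝔞`. -/
def Nzd (𝔞 : Ideal B) (f : B) : Prop := ∀ z, f * z ∈ 𝔞 → z ∈ 𝔞

/-- `fs` is a weakly regular sequence modulo `𝔞`. -/
def Reg : Ideal B → List B → Prop
  | _, [] => True
  | 𝔞, f :: fs => Nzd 𝔞 f ∧ Reg (𝔞 ⊔ Ideal.span {f}) fs

theorem isSMulRegular_quot_iff (𝔞 : Ideal B) (f : B) : IsSMulRegular (B ⧸ 𝔞) f ↔ Nzd 𝔞 f := by
  rw [isSMulRegular_iff_right_eq_zero_of_smul]
  constructor
  · intro h z hz
    have h1 := h (Ideal.Quotient.mk 𝔞 z) (by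
      rw [← Ideal.Quotient.mk_eq_mk, ← Submodule.Quotient.mk_smul]
      exact (Submodule.Quotient.mk_eq_zero 𝔞).2 hz)
    exact Ideal.Quotient.eq_zero_iff_mem.1 h1
  · intro h m hm
    obtain ⟨z, rfl⟩ := Ideal.Quotient.mk_surjective m
    rw [← Ideal.Quotient.mk_eq_mk, ← Submodule.Quotient.mk_smul, Submodule.Quotient.mk_eq_zero] at hm
    exact Ideal.Quotient.eq_zero_iff_mem.2 (h z hm)

/-- `(B / 𝔞) / f (B/𝔞) ≃ B / (𝔞 + f)`. -/
noncomputable def quotEquiv (𝔞 : Ideal B) (f : B) : QuotSMulTop f (B ⧸ 𝔞) ≃ₗ[B] B ⧸ (𝔞 ⊔ Ideal.span {f}) := by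
  have h1 : (f • (⊤ : Submodule B (B ⧸ 𝔞))) = Submodule.map (Submodule.mkQ 𝔞) (𝔞 ⊔ Ideal.span {f}) := by
    rw [Submodule.map_sup, Submodule.mkQ_map_self, bot_sup_eq]
    change f • (⊤ : Submodule B (B ⧸ 𝔞)) = Submodule.map (Submodule.mkQ 𝔞) (Submodule.span B {f})
    rw [← Submodule.ideal_span_singleton_smul, Submodule.map_span, Set.image_singleton]
    apply le_antisymm
    · rw [Submodule.smul_le]
      intro r hr n _
      obtain ⟨b, rfl⟩ := Ideal.Quotient.mk_surjective n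
      obtain ⟨c, rfl⟩ := Ideal.mem_span_singleton'.1 hr
      refine Submodule.mem_span_singleton.2 ⟨c * b, ?_⟩
      rw [Submodule.mkQ_apply, ← Submodule.Quotient.mk_smul, ← Ideal.Quotient.mk_eq_mk,
        ← Submodule.Quotient.mk_smul]
      congr 1
      simp only [smul_eq_mul]
      ring
    · rw [Submodule.span_singleton_le_iff_mem]
      have h2 : (Submodule.mkQ 𝔞) f = f • (Submodule.mkQ 𝔞) 1 := by
        rw [← map_smul, smul_eq_mul, mul_one]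
      rw [h2]
      exact Submodule.smul_mem_smul (Ideal.mem_span_singleton_self f) trivial
  exact (Submodule.quotEquivOfEq _ _ h1).trans (Submodule.quotientQuotientEquivQuotient 𝔞 (𝔞 ⊔ Ideal.span {f}) le_sup_left)

theorem isWeaklyRegular_iff (fs : List B) : ∀ (𝔞 : Ideal B), IsWeaklyRegular (B ⧸ 𝔞) fs ↔ Reg 𝔞 fs := by
  induction fs with
  | nil => intro 𝔞; exact ⟨fun _ => trivial, fun _ => IsWeaklyRegular.nil _ _⟩
  | cons f fs ih =>
    intro 𝔞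
    rw [isWeaklyRegular_cons_iff, isSMulRegular_quot_iff, (quotEquiv 𝔞 f).isWeaklyRegular_congr, ih]
    rfl

variable {ϖ : B}

theorem nzd_sup {𝔞 : Ideal B} (h𝔞 : Nzd 𝔞 ϖ) {f : B} (hf : Nzd (𝔞 ⊔ Ideal.span {ϖ}) f) :
    Nzd (𝔞 ⊔ Ideal.span {f}) ϖ := by
  intro z hz
  obtain ⟨α, hα, y, hy, hαy⟩ := Submodule.mem_sup.1 hz
  obtain ⟨b, rfl⟩ := Ideal.mem_span_singleton'.1 hy
  have h1 : f * b ∈ 𝔞 ⊔ Ideal.span {ϖ} := by
    have h2 : f * b = -α + z * ϖ := by linear_combination hαy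
    rw [h2]
    exact Ideal.add_mem _ (Submodule.mem_sup_left (neg_mem hα))
      (Submodule.mem_sup_right (Ideal.mem_span_singleton'.2 ⟨z, rfl⟩))
  obtain ⟨α', hα', y', hy', hb⟩ := Submodule.mem_sup.1 (hf b h1)
  obtain ⟨c, rfl⟩ := Ideal.mem_span_singleton'.1 hy'
  have h3 : z - c * f ∈ 𝔞 := by
    apply h𝔞
    have h4 : ϖ * (z - c * f) = α + α' * f := by linear_combination (-1 : B) * hαy - f * hb
    rw [h4]
    exact add_mem hα (Ideal.mul_mem_right _ _ hα')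
  have h5 : z = (z - c * f) + c * f := by ring
  rw [h5]
  exact Ideal.add_mem _ (Submodule.mem_sup_left h3) (Submodule.mem_sup_right (Ideal.mem_span_singleton'.2 ⟨c, rfl⟩))

/-- If `fs` is regular modulo `ϖ`, then `ϖ` is a non-zero-divisor modulo `fs`. -/
theorem nzd_ofList (fs : List B) : ∀ (𝔞 : Ideal B), Nzd 𝔞 ϖ → Reg (𝔞 ⊔ Ideal.span {ϖ}) fs →
    Nzd (𝔞 ⊔ Ideal.ofList fs) ϖ := by
  induction fs with
  | nil => intro 𝔞 h _; rwa [Ideal.ofList_nil, sup_bot_eq]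
  | cons f fs ih =>
    intro 𝔞 h h'
    rw [Ideal.ofList_cons, ← sup_assoc]
    apply ih _ (nzd_sup h h'.1)
    rw [sup_right_comm]
    exact h'.2

theorem nzd_pow {𝔞 : Ideal B} (h𝔞 : Nzd 𝔞 ϖ) {f : B} (hf : Nzd (𝔞 ⊔ Ideal.span {ϖ}) f) (n : ℕ) :
    Nzd (𝔞 ⊔ Ideal.span {ϖ ^ (n + 1)}) f := by
  induction n with
  | zero => rwa [zero_add, pow_one]
  | succ n ih =>
    intro z hz
    obtain ⟨α, hα, y, hy, h1⟩ := Submodule.mem_sup.1 hz
    obtain ⟨b, rfl⟩ := Ideal.mem_span_singleton'.1 hy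
    have h2 : f * z ∈ 𝔞 ⊔ Ideal.span {ϖ} := by
      rw [← h1]
      refine Ideal.add_mem _ (Submodule.mem_sup_left hα) (Submodule.mem_sup_right ?_)
      exact Ideal.mem_span_singleton'.2 ⟨b * ϖ ^ (n + 1), by ring⟩
    obtain ⟨α', hα', y', hy', hz'⟩ := Submodule.mem_sup.1 (hf z h2)
    obtain ⟨c, rfl⟩ := Ideal.mem_span_singleton'.1 hy'
    have h3 : f * c ∈ 𝔞 ⊔ Ideal.span {ϖ ^ (n + 1)} := by
      have h4 : f * c - b * ϖ ^ (n + 1) ∈ 𝔞 := by
        apply h𝔞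
        have h5 : ϖ * (f * c - b * ϖ ^ (n + 1)) = α - f * α' := by linear_combination f * hz' - h1
        rw [h5]
        exact sub_mem hα (Ideal.mul_mem_left _ _ hα')
      have h6 : f * c = (f * c - b * ϖ ^ (n + 1)) + b * ϖ ^ (n + 1) := by ring
      rw [h6]
      exact Ideal.add_mem _ (Submodule.mem_sup_left h4) (Submodule.mem_sup_right (Ideal.mem_span_singleton'.2 ⟨b, rfl⟩))
    obtain ⟨α'', hα'', y'', hy'', hc⟩ := Submodule.mem_sup.1 (ih c h3)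
    obtain ⟨d, rfl⟩ := Ideal.mem_span_singleton'.1 hy''
    have h7 : z = (α' + α'' * ϖ) + d * ϖ ^ (n + 1 + 1) := by
      rw [← hz', ← hc]; ring
    rw [h7]
    exact Ideal.add_mem _ (Submodule.mem_sup_left (add_mem hα' (Ideal.mul_mem_right _ _ hα'')))
      (Submodule.mem_sup_right (Ideal.mem_span_singleton'.2 ⟨d, rfl⟩))

/-- If `fs` is regular modulo `ϖ`, it is regular modulo powers of `ϖ`. -/
theorem reg_pow (n : ℕ) (fs : List B) : ∀ (𝔞 : Ideal B), Nzd 𝔞 ϖ → Reg (𝔞 ⊔ Ideal.span {ϖ}) fs →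
    Reg (𝔞 ⊔ Ideal.span {ϖ ^ (n + 1)}) fs := by
  induction fs with
  | nil => intro 𝔞 _ _; trivial
  | cons f fs ih =>
    intro 𝔞 h h'
    refine ⟨nzd_pow h h'.1 n, ?_⟩
    rw [sup_right_comm]
    apply ih _ (nzd_sup h h'.1)
    rw [sup_right_comm]
    exact h'.2

theorem nzd_bot_pow (h : Nzd (⊥ : Ideal B) ϖ) (n : ℕ) : Nzd (⊥ : Ideal B) (ϖ ^ n) := by
  induction n with
  | zero => intro z hz; rwa [pow_zero, one_mul] at hz
  | succ n ih =>
    intro z hz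
    rw [pow_succ', mul_assoc] at hz
    exact ih z (h _ hz)

/-- `ϖ^(n+1), fs` is weakly regular. -/
theorem isWeaklyRegular_cons_pow (h : Nzd (⊥ : Ideal B) ϖ) {fs : List B} (hfs : Reg (Ideal.span {ϖ}) fs) (n : ℕ) :
    IsWeaklyRegular B (ϖ ^ (n + 1) :: fs) := by
  have h1 : Reg (⊥ : Ideal B) (ϖ ^ (n + 1) :: fs) := by
    refine ⟨nzd_bot_pow h _, ?_⟩
    apply reg_pow n fs ⊥ h
    rwa [bot_sup_eq]
  rw [← isWeaklyRegular_iff] at h1
  exact ((Submodule.quotEquivOfEqBot (⊥ : Ideal B) rfl).isWeaklyRegular_congr _).1 h1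

section Step

variable (g : B → B)

theorem sup_span_eq {𝔟 : Ideal B} {f f' : B} (h : f' - f ∈ 𝔟) : 𝔟 ⊔ Ideal.span {f'} = 𝔟 ⊔ Ideal.span {f} := by
  apply le_antisymm
  · refine sup_le le_sup_left ?_
    rw [Ideal.span_singleton_le_iff_mem]
    have h1 : f' = (f' - f) + f := by ring
    rw [h1]
    exact add_mem (Submodule.mem_sup_left h) (Submodule.mem_sup_right (Ideal.mem_span_singleton_self f))
  · refine sup_le le_sup_left ?_
    rw [Ideal.span_singleton_le_iff_mem]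
    have h1 : f = -(f' - f) + f' := by ring
    rw [h1]
    exact add_mem (Submodule.mem_sup_left (neg_mem h)) (Submodule.mem_sup_right (Ideal.mem_span_singleton_self f'))

theorem sup_ofList_map_eq (fs : List B) : ∀ (𝔟 : Ideal B), (∀ f ∈ fs, g f - f ∈ 𝔟) →
    𝔟 ⊔ Ideal.ofList (fs.map g) = 𝔟 ⊔ Ideal.ofList fs := by
  induction fs with
  | nil => intro 𝔟 _; rfl
  | cons f fs ih =>
    intro 𝔟 h
    rw [List.map_cons, Ideal.ofList_cons, Ideal.ofList_cons, ← sup_assoc, ← sup_assoc,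
      sup_span_eq (h f List.mem_cons_self),
      ih _ fun f' hf' => Submodule.mem_sup_left (h f' (List.mem_cons_of_mem _ hf'))]

theorem reg_map (fs : List B) : ∀ (𝔟 : Ideal B), (∀ f ∈ fs, g f - f ∈ 𝔟) → Reg 𝔟 fs → Reg 𝔟 (fs.map g) := by
  induction fs with
  | nil => intro 𝔟 _ _; trivial
  | cons f fs ih =>
    intro 𝔟 h h'
    have h0 := h f List.mem_cons_self
    refine ⟨?_, ?_⟩
    · intro z hz
      apply h'.1
      have h1 : f * z = g f * z - (g f - f) * z := by ring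
      rw [h1]
      exact sub_mem hz (Ideal.mul_mem_right _ _ h0)
    · rw [sup_span_eq h0]
      exact ih _ (fun f' hf' => Submodule.mem_sup_left (h f' (List.mem_cons_of_mem _ hf'))) h'.2

/-- The algebra of one step: `J' = {x ∈ (ϖ^(n+1), fs) | ρ x = 0}` is `(ϖ^(n+2), fs')`. -/
theorem step {C : Type v} [CommRing C] {n : ℕ} {fs : List B} {K₀ K K' : Ideal B}
    (hreg : Reg (Ideal.span {ϖ}) fs) (hK₀ : K₀ = Ideal.span {ϖ} ⊔ Ideal.ofList fs)
    (hK : K = Ideal.span {ϖ ^ (n + 1)} ⊔ Ideal.ofList fs)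
    (q : B →+* C) (hq : Function.Surjective q) (hqk : RingHom.ker q = K₀) (ρ : K → C)
    (hρa : ∀ x y : K, ρ (x + y) = ρ x + ρ y) (hρm : ∀ (b : B) (x : K), ρ (b • x) = q b * ρ x)
    (hρ1 : ∀ x : K, (x : B) = ϖ ^ (n + 1) → ρ x = 1) (hK' : ∀ x : B, x ∈ K' ↔ ∃ y : K, (y : B) = x ∧ ρ y = 0) :
    ∃ fs' : List B, Reg (Ideal.span {ϖ}) fs' ∧ K₀ = Ideal.span {ϖ} ⊔ Ideal.ofList fs' ∧
      K' = Ideal.span {ϖ ^ (n + 1 + 1)} ⊔ Ideal.ofList fs' ∧
      K = Ideal.span {ϖ ^ (n + 1)} ⊔ K' := by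
  classical
  have hπ : ϖ ^ (n + 1) ∈ K := by
    rw [hK]; exact Submodule.mem_sup_left (Ideal.mem_span_singleton_self _)
  have hfK : ∀ f ∈ fs, f ∈ K := fun f hf => by
    rw [hK]; exact Submodule.mem_sup_right (Ideal.subset_span hf)
  choose s hs using hq
  let r : B → B := fun f => if h : f ∈ K then s (ρ ⟨f, h⟩) else 0
  let g : B → B := fun f => f - r f * ϖ ^ (n + 1)
  have hg1 : ∀ f, g f - f ∈ Ideal.span {ϖ ^ (n + 1)} := fun f =>
    Ideal.mem_span_singleton'.2 ⟨- r f, by simp only [g]; ring⟩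
  have hle : Ideal.span {ϖ ^ (n + 1)} ≤ Ideal.span {ϖ} := by
    rw [Ideal.span_singleton_le_span_singleton]
    exact dvd_pow_self ϖ n.succ_ne_zero
  have hg2 : ∀ f, g f - f ∈ Ideal.span {ϖ} := fun f => hle (hg1 f)
  have hK₀' : K₀ = Ideal.span {ϖ} ⊔ Ideal.ofList (fs.map g) := by
    rw [hK₀, sup_ofList_map_eq g fs _ fun f _ => hg2 f]
  have hKg : K = Ideal.span {ϖ ^ (n + 1)} ⊔ Ideal.ofList (fs.map g) := by
    rw [hK, sup_ofList_map_eq g fs _ fun f _ => hg1 f]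
  have hgK' : ∀ f ∈ fs, g f ∈ K' := by
    intro f hf
    have hfK' := hfK f hf
    rw [hK']
    refine ⟨⟨f, hfK'⟩ + (- r f) • ⟨ϖ ^ (n + 1), hπ⟩, ?_, ?_⟩
    · change f + (- r f) • ϖ ^ (n + 1) = f - r f * ϖ ^ (n + 1)
      rw [smul_eq_mul]; ring
    · rw [hρa, hρm, hρ1 ⟨ϖ ^ (n + 1), hπ⟩ rfl, mul_one, map_neg]
      simp only [r, dif_pos hfK', hs]
      exact add_neg_cancel _
  have hϖK' : ∀ b ∈ K₀, b * ϖ ^ (n + 1) ∈ K' := by
    intro b hb
    rw [hK']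
    refine ⟨b • ⟨ϖ ^ (n + 1), hπ⟩, rfl, ?_⟩
    rw [hρm, hρ1 _ rfl, mul_one]
    rw [← hqk] at hb
    exact hb
  have hK'1 : Ideal.span {ϖ ^ (n + 1 + 1)} ⊔ Ideal.ofList (fs.map g) ≤ K' := by
    refine sup_le ?_ ?_
    · rw [Ideal.span_singleton_le_iff_mem, pow_succ', ]
      exact hϖK' ϖ (by rw [hK₀]; exact Submodule.mem_sup_left (Ideal.mem_span_singleton_self _))
    · rw [Ideal.ofList, Ideal.span_le]
      intro x hx
      obtain ⟨f, hf, rfl⟩ := List.mem_map.1 hx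
      exact hgK' f hf
  have hK'2 : K' ≤ Ideal.span {ϖ ^ (n + 1 + 1)} ⊔ Ideal.ofList (fs.map g) := by
    intro x hx
    have hx' := hx
    rw [hK'] at hx
    obtain ⟨y, rfl, hy⟩ := hx
    have hyK : (y : B) ∈ Ideal.span {ϖ ^ (n + 1)} ⊔ Ideal.ofList (fs.map g) := hKg ▸ y.2
    obtain ⟨c, hc, d, hd, hcd⟩ := Submodule.mem_sup.1 hyK
    obtain ⟨b, rfl⟩ := Ideal.mem_span_singleton'.1 hc
    have hd' : d ∈ K' := hK'1 (Submodule.mem_sup_right hd)
    have hb : b * ϖ ^ (n + 1) ∈ K' := by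
      have h1 : b * ϖ ^ (n + 1) = y - d := by rw [← hcd]; ring
      rw [h1]
      exact sub_mem hx' hd'
    obtain ⟨z, hz, hz'⟩ := (hK' _).1 hb
    have hz2 : z = b • ⟨ϖ ^ (n + 1), hπ⟩ := Subtype.ext hz
    rw [hz2, hρm, hρ1 _ rfl, mul_one] at hz'
    have hb0 : b ∈ K₀ := by rw [← hqk]; exact hz'
    rw [hK₀'] at hb0
    obtain ⟨p, hp, p', hp', hpp⟩ := Submodule.mem_sup.1 hb0
    obtain ⟨e, rfl⟩ := Ideal.mem_span_singleton'.1 hp
    rw [← hcd, ← hpp]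
    have h2 : (e * ϖ + p') * ϖ ^ (n + 1) + d = e * ϖ ^ (n + 1 + 1) + (p' * ϖ ^ (n + 1) + d) := by ring
    rw [h2]
    exact add_mem (Submodule.mem_sup_left (Ideal.mem_span_singleton'.2 ⟨e, rfl⟩))
      (Submodule.mem_sup_right (add_mem (Ideal.mul_mem_right _ _ hp') hd))
  refine ⟨fs.map g, reg_map g fs _ (fun f _ => hg2 f) hreg, hK₀', le_antisymm hK'2 hK'1, ?_⟩
  rw [hKg]
  apply le_antisymm
  · exact sup_le le_sup_left (le_sup_of_le_right (le_sup_right.trans hK'1))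
  · refine sup_le le_sup_left (hK'2.trans (sup_le (le_sup_of_le_left ?_) le_sup_right))
    rw [Ideal.span_singleton_le_span_singleton, pow_succ ϖ (n + 1)]
    exact dvd_mul_right _ _

end Step

section Flat

variable {R : Type u} [CommRing R] [IsDomain R] [IsDiscreteValuationRing R]

theorem isTorsionFree_of_nzd [Algebra R B] {π : R} (hπ : Irreducible π) (𝔞 : Ideal B)
    (h : Nzd 𝔞 (algebraMap R B π)) : Module.IsTorsionFree R (B ⧸ 𝔞) := by
  refine ⟨fun r hr => ?_⟩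
  have hr0 : r ≠ 0 := hr.ne_zero
  obtain ⟨n, u, rfl⟩ := IsDiscreteValuationRing.eq_unit_mul_pow_irreducible hr0 hπ
  have h2 : IsSMulRegular (B ⧸ 𝔞) (π ^ n) := by
    apply IsSMulRegular.pow
    rw [isSMulRegular_iff_right_eq_zero_of_smul]
    intro m hm
    obtain ⟨z, rfl⟩ := Ideal.Quotient.mk_surjective m
    rw [Algebra.smul_def, IsScalarTower.algebraMap_apply R B (B ⧸ 𝔞), Ideal.Quotient.algebraMap_eq, ← map_mul] at hm
    exact Ideal.Quotient.eq_zero_iff_mem.2 (h z (Ideal.Quotient.eq_zero_iff_mem.1 hm))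
  exact IsSMulRegular.mul (u.isUnit.isSMulRegular _) h2

/-- Flatness of `B / (ϖ^(n+1), fs)` over `R / ϖ^(n+1)`. -/
theorem flat_quot {C : Type u} [CommRing C] {π : R} (hπ : Irreducible π) (σ : R →+* B) (𝔞 : Ideal B)
    (h : Nzd 𝔞 (σ π)) (J : Ideal R) (q : B →+* C) (hq : Function.Surjective q)
    (hqk : RingHom.ker q = J.map σ ⊔ 𝔞) (ψ : R ⧸ J →+* C) (hψ : ψ.comp (Ideal.Quotient.mk J) = q.comp σ) :
    ψ.Flat := by
  algebraize [σ, ψ]
  have h1 : Module.IsTorsionFree R (B ⧸ 𝔞) := isTorsionFree_of_nzd hπ 𝔞 h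
  have h2 : Module.Flat R (B ⧸ 𝔞) := inferInstance
  have h3 : Module.Flat (R ⧸ J) (TensorProduct R (R ⧸ J) (B ⧸ 𝔞)) := inferInstance
  have h𝔞 : ∀ a ∈ 𝔞, q a = 0 := fun a ha => by
    rw [← RingHom.mem_ker, hqk]; exact Submodule.mem_sup_right ha
  let q' : B ⧸ 𝔞 →+* C := Ideal.Quotient.lift 𝔞 q h𝔞
  let _ : Algebra R C := (q.comp σ).toAlgebra
  have hst : IsScalarTower R (R ⧸ J) C := IsScalarTower.of_algebraMap_eq' hψ.symm
  have hcomm : ∀ r : R, q' (algebraMap R (B ⧸ 𝔞) r) = algebraMap R C r := fun r => by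
    change q' (algebraMap R (B ⧸ 𝔞) r) = q (σ r)
    rw [IsScalarTower.algebraMap_apply R B (B ⧸ 𝔞)]
    exact Ideal.Quotient.lift_mk _ _ _
  let q'' : B ⧸ 𝔞 →ₐ[R] C := { q' with commutes' := hcomm }
  have hq''s : Function.Surjective q'' := Ideal.Quotient.lift_surjective_of_surjective _ _ hq
  have hq''k : LinearMap.ker q''.toLinearMap = J • (⊤ : Submodule R (B ⧸ 𝔞)) := by
    rw [Ideal.smul_top_eq_map]
    ext x
    obtain ⟨b, rfl⟩ := Ideal.Quotient.mk_surjective x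
    have e1 : J.map (algebraMap R (B ⧸ 𝔞)) = (J.map σ).map (Ideal.Quotient.mk 𝔞) := by
      rw [Ideal.map_map]; rfl
    rw [Submodule.restrictScalars_mem, e1, LinearMap.mem_ker]
    have e2 : q''.toLinearMap (Ideal.Quotient.mk 𝔞 b) = q b := Ideal.Quotient.lift_mk 𝔞 q h𝔞
    rw [e2, ← RingHom.mem_ker, hqk,
      Ideal.mem_map_iff_of_surjective (Ideal.Quotient.mk 𝔞) Ideal.Quotient.mk_surjective]
    constructor
    · intro hb
      obtain ⟨c, hc, d, hd, rfl⟩ := Submodule.mem_sup.1 hb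
      refine ⟨c, hc, ?_⟩
      rw [map_add, Ideal.Quotient.eq_zero_iff_mem.2 hd, add_zero]
    · rintro ⟨c, hc, hcb⟩
      rw [Ideal.Quotient.eq] at hcb
      have h4 : b = c - (c - b) := by ring
      rw [h4]
      exact sub_mem (Submodule.mem_sup_left hc) (Submodule.mem_sup_right hcb)
  let e : TensorProduct R (R ⧸ J) (B ⧸ 𝔞) ≃ₗ[R] C :=
    (TensorProduct.quotTensorEquivQuotSMul (B ⧸ 𝔞) J).trans
      ((Submodule.quotEquivOfEq _ _ hq''k.symm).trans (q''.toLinearMap.quotKerEquivOfSurjective hq''s))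
  let e' : TensorProduct R (R ⧸ J) (B ⧸ 𝔞) ≃ₗ[R ⧸ J] C :=
    e.extendScalarsOfSurjective Ideal.Quotient.mk_surjective
  exact Module.Flat.of_linearEquiv e'.symm

end Flat

end K695.LciAlg
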