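import Groth.Agent.Lift.K695.LciStep
import Groth.Agent.Lift.K695.FlatProper
import Groth.Agent.Lift.K695.ClFib
import Groth.Agent.CohqB.AlgClosed
import Groth.Agent.Divis.RegImm
import Mathlib.RingTheory.Ideal.Quotient.Operations

/-!
# Lifting locally complete intersections over a complete discrete valuation ring
-/

set_option autoImplicit false
universe u
open CategoryTheory CategoryTheory.Limits CategoryTheory.Abelian AlgebraicGeometry Opposite TopologicalSpace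

namespace K695.LciLift

open Groth.Agent Groth.Agent.Sga67.Sec Groth.Agent.Sga67.LocBasis K695.LciAlg K695.LciStep
open Groth.Agent.CohqB.AlgThick

section Zero

variable {P P₀ X₀ : Scheme.{u}} {j : P₀ ⟶ P} [IsClosedImmersion j] {ι : X₀ ⟶ P₀} {w : Γ(P, ⊤)}

theorem good_zero (hι : Mor2.IsRegularClosedImmersion ι)
    (hj : ∀ U : P.affineOpens, j.ker.ideal U = Ideal.span {wr w U.1}) :
    Good j ι w (ι ≫ j).ker 0 := by
  have hci : IsClosedImmersion ι := hι.1
  refine ⟨le_rfl, fun x => ?_⟩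
  simp only [zero_add, pow_one]
  suffices h : ∃ (U : P.affineOpens) (fs : List Γ(P, U.1)), x ∈ U.1 ∧ Reg (Ideal.span {wr w U.1}) fs ∧
    (ι ≫ j).ker.ideal U = Ideal.span {wr w U.1} ⊔ Ideal.ofList fs by
    obtain ⟨U, fs, h1, h2, h3⟩ := h
    exact ⟨U, fs, h1, h2, h3, h3⟩
  by_cases hx : x ∈ Set.range (ι ≫ j)
  · obtain ⟨z, rfl⟩ := hx
    obtain ⟨U₀, hU₀, hz, rs, hrs, hker⟩ := hι.2 z
    obtain ⟨V, hV, hVU⟩ := j.isClosedEmbedding.isInducing.isOpen_iff.1 U₀.isOpen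
    have hzV : (ι ≫ j) z ∈ V := by
      have : ι z ∈ j ⁻¹' V := by rw [hVU]; exact hz
      exact this
    obtain ⟨_, ⟨U, hU, rfl⟩, hxU, hUV⟩ := P.isBasis_affineOpens.exists_subset_of_mem_open hzV hV
    have hle : j ⁻¹ᵁ U ≤ U₀ := fun y hy => by
      have : y ∈ j ⁻¹' V := hUV hy
      rwa [hVU] at this
    have haff : IsAffineOpen (j ⁻¹ᵁ U) := hU.preimage j
    obtain ⟨rs', hrs', hker'⟩ := Divis.RegImm.RegOn.mono (I := ι.ker) (U := ⟨U₀, hU₀⟩) (V := ⟨j ⁻¹ᵁ U, haff⟩)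
      ⟨rs, hrs.toIsWeaklyRegular, hker⟩ hle
    obtain ⟨fs, hfs⟩ := (Function.Surjective.list_map (j.app_surjective U hU)) rs'
    refine ⟨⟨U, hU⟩, fs, hxU, (isWeaklyRegular_app_iff hj ⟨U, hU⟩ fs).1 (hfs ▸ hrs'), ?_⟩
    have hk2 : RingHom.ker (j.app U).hom = Ideal.span {wr w U} := by
      rw [← hj ⟨U, hU⟩, Scheme.Hom.ker_apply]
    rw [ideal_ker_comp, hker']
    have h1 : Ideal.ofList rs' = (Ideal.ofList fs).map (j.app U).hom := by
      rw [Ideal.map_ofList]; exact congrArg Ideal.ofList hfs.symm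
    rw [h1, Ideal.comap_map_of_surjective _ (j.app_surjective U hU), sup_comm, ← hk2]
    rfl
  · have hcl : IsClosed (Set.range (ι ≫ j)) := (ι ≫ j).isClosedEmbedding.isClosed_range
    obtain ⟨_, ⟨U, hU, rfl⟩, hxU, hUV⟩ := P.isBasis_affineOpens.exists_subset_of_mem_open
      (show x ∈ (Set.range (ι ≫ j))ᶜ from hx) hcl.isOpen_compl
    refine ⟨⟨U, hU⟩, [1], hxU, ⟨fun z hz => by rwa [one_mul] at hz, trivial⟩, ?_⟩
    have h1 : Ideal.ofList [(1 : Γ(P, U))] = ⊤ := by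
      rw [Ideal.ofList_singleton, Ideal.span_singleton_one]
    rw [h1, sup_top_eq, Ideal.eq_top_iff_one, Scheme.Hom.ker_apply, RingHom.mem_ker, map_one]
    have h2 : (ι ≫ j) ⁻¹ᵁ U = ⊥ := by
      ext y
      simp only [Opens.coe_bot, Set.mem_empty_iff_false, iff_false]
      exact fun hy => hUV hy ⟨y, rfl⟩
    have h3 : Subsingleton Γ(X₀, (ι ≫ j) ⁻¹ᵁ U) := by
      rw [h2]
      infer_instance
    exact Subsingleton.elim _ _

end Zero

/-- The system of liftings. -/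
theorem exists_system {P P₀ X₀ : Scheme.{u}} {j : P₀ ⟶ P} [IsClosedImmersion j] {ι : X₀ ⟶ P₀} {w : Γ(P, ⊤)}
    (hι : Mor2.IsRegularClosedImmersion ι) [HasExt.{u} X₀.Modules]
    (hw : ∀ U : P.affineOpens, Nzd (⊥ : Ideal Γ(P, U.1)) (wr w U.1))
    (hj : ∀ U : P.affineOpens, j.ker.ideal U = Ideal.span {wr w U.1})
    (hN : Subsingleton (Ext.{u} (Omega.conormal ι) (Coh.structureModule X₀) 1)) :
    ∃ K : ℕ → P.IdealSheafData, K 0 = (ι ≫ j).ker ∧ (∀ n, Good j ι w (K n) n) ∧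
      ∀ n, K n = j.ker ^ (n + 1) ⊔ K (n + 1) := by
  have hci : IsClosedImmersion ι := hι.1
  choose! F hF1 hF2 using fun (n : ℕ) (K : P.IdealSheafData) (hK : Good j ι w K n) =>
    exists_next (K := K) (n := n) hw hj hK hN
  let K : ℕ → P.IdealSheafData := fun n => Nat.rec (ι ≫ j).ker (fun n K => F n K) n
  have hK : ∀ n, Good j ι w (K n) n := by
    intro n
    induction n with
    | zero => exact good_zero hι hj
    | succ n ih => exact hF1 n (K n) ih
  exact ⟨K, rfl, hK, fun n => hF2 n (K n) (hK n)⟩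

section Main

variable {R : Type u} [CommRing R] [IsDomain R] [IsDiscreteValuationRing R]

omit [IsDomain R] [IsDiscreteValuationRing R] in
theorem flat_aff {P : Scheme.{u}} (f : P ⟶ Spec (CommRingCat.of R)) [Flat f] (U : P.affineOpens) :
    (aff f U.1).Flat := by
  have h1 := Flat.flat_appLE f (isAffineOpen_top _) U.2 (fun _ _ => trivial : U.1 ≤ f ⁻¹ᵁ ⊤)
  have h2 : ((Scheme.ΓSpecIso (CommRingCat.of R)).inv.hom).Flat :=
    RingHom.Flat.of_bijective (ConcreteCategory.bijective_of_isIso (Scheme.ΓSpecIso (CommRingCat.of R)).inv)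
  exact RingHom.Flat.comp (f := (Scheme.ΓSpecIso (CommRingCat.of R)).inv.hom) h2 h1

omit [IsDiscreteValuationRing R] in
theorem nzd_aff {P : Scheme.{u}} (f : P ⟶ Spec (CommRingCat.of R)) [Flat f] (U : P.affineOpens) {π : R}
    (hπ : π ≠ 0) : Nzd (⊥ : Ideal Γ(P, U.1)) (aff f U.1 π) := by
  intro z hz
  have h1 := flat_aff f U
  algebraize [aff f U.1]
  have h2 : IsSMulRegular Γ(P, U.1) π :=
    Module.Flat.isSMulRegular_of_nonZeroDivisors (mem_nonZeroDivisors_of_ne_zero hπ)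
  refine h2.right_eq_zero_of_smul ?_
  rw [Algebra.smul_def]
  exact hz

variable {P : Scheme.{u}} (f : P ⟶ Spec (CommRingCat.of R)) {J : Ideal R}

/-- Flatness on a chart. -/
theorem flat_chart {Y : Scheme.{u}} (h : Y ⟶ P) [IsClosedImmersion h] (b : Y ⟶ Spec (CommRingCat.of (R ⧸ J)))
    (hb : b ≫ Spec.map (CommRingCat.ofHom (Ideal.Quotient.mk J)) = h ≫ f) {π : R} (hπ : Irreducible π)
    (U : P.affineOpens) (𝔞 : Ideal Γ(P, U.1)) (h𝔞 : Nzd 𝔞 (aff f U.1 π))
    (hk : h.ker.ideal U = J.map (aff f U.1) ⊔ 𝔞) : (b.appLE ⊤ (h ⁻¹ᵁ U.1) le_top).hom.Flat := by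
  have hker : RingHom.ker (h.app U.1).hom = J.map (aff f U.1) ⊔ 𝔞 := by
    rw [← hk, Scheme.Hom.ker_apply]
  let ψ : R ⧸ J →+* Γ(Y, h ⁻¹ᵁ U.1) :=
    (b.appLE ⊤ (h ⁻¹ᵁ U.1) le_top).hom.comp (Scheme.ΓSpecIso (CommRingCat.of (R ⧸ J))).inv.hom
  have hψ : ψ.comp (Ideal.Quotient.mk J) = (h.app U.1).hom.comp (aff f U.1) := by
    ext a
    have h1 := aff_comp f h U.1 (h ⁻¹ᵁ U.1) le_rfl a
    rw [← hb, ← aff_comp _ b ⊤ (h ⁻¹ᵁ U.1) le_top, Scheme.Hom.appLE_eq_app] at h1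
    refine Eq.trans ?_ h1.symm
    refine congrArg (b.appLE ⊤ (h ⁻¹ᵁ U.1) le_top).hom ?_
    refine (appTop_specMap J a).symm.trans ?_
    have h2 : (Spec.map (CommRingCat.ofHom (Ideal.Quotient.mk J))).appLE ⊤ ⊤ le_top =
      (Spec.map (CommRingCat.ofHom (Ideal.Quotient.mk J))).appTop := Scheme.Hom.appLE_eq_app _
    exact (congr($(h2) ((Scheme.ΓSpecIso (CommRingCat.of R)).inv.hom a))).symm
  have h1 : ψ.Flat := flat_quot hπ (aff f U.1) 𝔞 h𝔞 J (h.app U.1).hom (h.app_surjective U.1 U.2) hker ψ hψ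
  have h2 : (Scheme.ΓSpecIso (CommRingCat.of (R ⧸ J))).hom.hom.Flat :=
    RingHom.Flat.of_bijective (ConcreteCategory.bijective_of_isIso (Scheme.ΓSpecIso (CommRingCat.of (R ⧸ J))).hom)
  have h3 := RingHom.Flat.comp h2 h1
  have h4 : ψ.comp (Scheme.ΓSpecIso (CommRingCat.of (R ⧸ J))).hom.hom = (b.appLE ⊤ (h ⁻¹ᵁ U.1) le_top).hom := by
    change (((Scheme.ΓSpecIso (CommRingCat.of (R ⧸ J))).hom ≫ (Scheme.ΓSpecIso (CommRingCat.of (R ⧸ J))).inv ≫
      b.appLE ⊤ (h ⁻¹ᵁ U.1) le_top)).hom = _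
    rw [Iso.hom_inv_id_assoc]
  rwa [h4] at h3

/-- **Lifting a regular closed immersion** over a complete discrete valuation ring. -/
theorem exists_lift [IsAdicComplete (IsLocalRing.maximalIdeal R) R] [IsProper f] [Flat f] {X₀ : Scheme.{u}}
    (ι : X₀ ⟶ pullback f (Spec.map (CommRingCat.ofHom (IsLocalRing.residue R))))
    (hι : Mor2.IsRegularClosedImmersion ι) [HasExt.{u} X₀.Modules]
    (hN : Subsingleton (Ext.{u} (Omega.conormal ι) (Coh.structureModule X₀) 1)) :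
    ∃ (X : Scheme.{u}) (j : X ⟶ P) (i : X₀ ⟶ X), IsClosedImmersion j ∧ Flat (j ≫ f) ∧
      IsPullback i ι j (pullback.fst f (Spec.map (CommRingCat.ofHom (IsLocalRing.residue R)))) := by
  let _ : P.Over (Spec (CommRingCat.of R)) := ⟨f⟩
  have inst1 : IsSeparated (P ↘ Spec (CommRingCat.of R)) := inferInstanceAs (IsSeparated f)
  have inst2 : LocallyOfFiniteType (P ↘ Spec (CommRingCat.of R)) := inferInstanceAs (LocallyOfFiniteType f)
  have inst3 : QuasiCompact (P ↘ Spec (CommRingCat.of R)) := inferInstanceAs (QuasiCompact f)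
  obtain ⟨π, hπ⟩ := IsDiscreteValuationRing.exists_irreducible R
  let 𝔪 := IsLocalRing.maximalIdeal R
  have h𝔪 : 𝔪 = Ideal.span {π} := hπ.maximalIdeal_eq
  let j := pullback.fst f (Spec.map (CommRingCat.ofHom (IsLocalRing.residue R)))
  let w : Γ(P, ⊤) := Coh.toGlobal f π
  have hwr : ∀ U : P.Opens, wr w U = aff f U π := fun U => rfl
  have hj : ∀ U : P.affineOpens, j.ker.ideal U = Ideal.span {wr w U.1} := by
    intro U
    have h1 : j.ker.ideal U = 𝔪.map (aff f U.1) := ClFib.ideal_ideal₀ R f U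
    rw [h1, h𝔪, Ideal.map_span, Set.image_singleton, hwr]
  have hjp : ∀ (n : ℕ) (U : P.affineOpens), (j.ker ^ (n + 1)).ideal U = (𝔪 ^ (n + 1)).map (aff f U.1) := by
    intro n U
    have h1 : j.ker.ideal U = 𝔪.map (aff f U.1) := ClFib.ideal_ideal₀ R f U
    rw [Scheme.IdealSheafData.ideal_pow, Pi.pow_apply, h1, Ideal.map_pow]
  have hw : ∀ U : P.affineOpens, Nzd (⊥ : Ideal Γ(P, U.1)) (wr w U.1) := fun U => nzd_aff f U hπ.ne_zero
  have hci : IsClosedImmersion ι := hι.1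
  obtain ⟨K, hK0, hKg, hKs⟩ := exists_system hι hw hj hN
  have hKle : ∀ n, K (n + 1) ≤ K n := fun n => by rw [hKs n]; exact le_sup_right
  have hKp : ∀ n, j.ker ^ (n + 1) ≤ K n := fun n => by rw [hKs n]; exact le_sup_left
  let h : ∀ n, (K n).subscheme ⟶ P := fun n => (K n).subschemeι
  have hthick : ∀ n (U : P.affineOpens), (CohB1.thickι f 𝔪 n).ker.ideal U = (𝔪 ^ (n + 1)).map (aff f U.1) :=
    fun n U => ker_ideal (IsPullback.of_hasPullback f (CohB1.specQuot 𝔪 n)) U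
  have hcl : ∀ n, IsClosedImmersion (CohB1.thickι f 𝔪 n) := fun n =>
    isClosedImmersion (IsPullback.of_hasPullback f (CohB1.specQuot 𝔪 n))
  have hzle : ∀ n, (CohB1.thickι f 𝔪 n).ker ≤ (h n).ker := by
    intro n
    rw [Scheme.IdealSheafData.ker_subschemeι]
    intro U
    rw [hthick, ← hjp]
    exact hKp n U
  let z : ∀ n, (K n).subscheme ⟶ CohB1.thick f 𝔪 n := fun n =>
    IsClosedImmersion.lift (CohB1.thickι f 𝔪 n) (h n) (hzle n)
  have hz : ∀ n, z n ≫ CohB1.thickι f 𝔪 n = h n := fun n => IsClosedImmersion.lift_fac _ _ _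
  let b : ∀ n, (K n).subscheme ⟶ Spec (CommRingCat.of (R ⧸ 𝔪 ^ (n + 1))) := fun n => z n ≫ CohB1.thickToBase f 𝔪 n
  have hb : ∀ n, b n ≫ CohB1.specQuot 𝔪 n = h n ≫ f := by
    intro n
    rw [← hz n, Category.assoc, Category.assoc]
    congr 1
    exact pullback.condition.symm
  let t : ∀ n, (K n).subscheme ⟶ (K (n + 1)).subscheme := fun n => Scheme.IdealSheafData.inclusion (hKle n)
  have ht : ∀ n, t n ≫ h (n + 1) = h n := fun n => Scheme.IdealSheafData.inclusion_subschemeι _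
  have hmk : ∀ n, IsPullback (t n) (b n) (h (n + 1) ≫ f) (CohB1.specQuot 𝔪 n) := by
    intro n
    refine CohqB.AlgClosed.isPullback_of_ker (J := 𝔪 ^ (n + 1)) (h n) (h (n + 1)) (t n) (ht n) (b n) (hb n) ?_
    intro U hU r hr
    have h1 : r ∈ (K n).ideal ⟨U, hU⟩ := by
      rw [← (K n).ker_subschemeι_app ⟨U, hU⟩]
      exact hr
    rw [hKs n, Scheme.IdealSheafData.ideal_sup, Pi.sup_apply, hjp] at h1
    obtain ⟨r₂, hr₂, r₁, hr₁, rfl⟩ := Submodule.mem_sup.1 h1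
    refine ⟨r₁, r₂, add_comm _ _, ?_, hr₂⟩
    rw [← (K (n + 1)).ker_subschemeι_app ⟨U, hU⟩] at hr₁
    exact hr₁
  have hcart : ∀ n, IsPullback (t n) (b n) (b (n + 1)) (CohB1.specQuotTrans 𝔪 n) := by
    intro n
    have h1 : IsPullback (CohB1.specQuotTrans 𝔪 n) (𝟙 _) (CohB1.specQuot 𝔪 (n + 1)) (CohB1.specQuot 𝔪 n) :=
      IsPullback.of_vert_isIso_mono ⟨by simp⟩
    have h2 : t n ≫ b (n + 1) = b n ≫ CohB1.specQuotTrans 𝔪 n := by
      rw [← cancel_mono (CohB1.specQuot 𝔪 (n + 1)), Category.assoc, hb, Category.assoc,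
        CohB1.specQuotTrans_specQuot, hb, ← ht n, Category.assoc]
    refine IsPullback.of_bot (h₃₁ := CohB1.specQuot 𝔪 n) (v₂₁ := 𝟙 _) (v₂₂ := CohB1.specQuot 𝔪 (n + 1)) ?_ h2 h1
    rw [Category.comp_id, hb]
    exact hmk n
  let S : CohqB.AlgFormal.Sys P 𝔪 :=
    { Y := fun n => (K n).subscheme
      h := h
      b := b
      t := t
      hb := hb
      ht := ht
      cart := hcart }
  have hSc : ∀ n, IsClosedImmersion (S.h n) := fun n => inferInstanceAs (IsClosedImmersion (K n).subschemeι)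
  have hSp : IsProper (S.h 0 ≫ (P ↘ Spec (CommRingCat.of R))) :=
    inferInstanceAs (IsProper ((K 0).subschemeι ≫ f))
  obtain ⟨W, i, v, hi, hip, hvi, hsq⟩ := CohqB.AlgClosed.exists_closed S hSp
  have hip' : IsProper (i ≫ f) := hip
  have hflatb : ∀ n, Flat (b n) := by
    intro n
    rw [HasRingHomProperty.iff_exists_appLE (P := @Flat)
      (RingHom.Flat.stableUnderComposition.stableUnderCompositionWithLocalizationAway
        RingHom.Flat.holdsForLocalizationAway).left]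
    intro z
    obtain ⟨U, fs, hx, hreg, h0, hK'⟩ := (hKg n).chart (h n z)
    refine ⟨⟨⊤, isAffineOpen_top _⟩, ⟨h n ⁻¹ᵁ U.1, U.2.preimage (h n)⟩, hx, le_top, ?_⟩
    refine flat_chart f (h n) (b n) (hb n) hπ U (Ideal.ofList fs) ?_ ?_
    · have h1 := nzd_ofList fs (⊥ : Ideal Γ(P, U.1)) (hw U) (by rw [bot_sup_eq]; exact hreg)
      rw [bot_sup_eq] at h1
      exact h1
    · rw [Scheme.IdealSheafData.ker_subschemeι, hK', ← hjp n U, Scheme.IdealSheafData.ideal_pow, Pi.pow_apply,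
        hj, Ideal.span_singleton_pow]
  have hflat : Flat (i ≫ f) := by
    refine FlatProper.flat_of_isProper R (i ≫ f) fun x hx => ?_
    refine FlatProper.flat_stalkMap_of_thickenings R 𝔪 (i ≫ f) (fun n => ?_) x ?_
    · have h1 : IsPullback (v n) (b n) (i ≫ f) (CohB1.specQuot 𝔪 n) := hsq n
      have h2 : pullback.snd (i ≫ f) (CohB1.specQuot 𝔪 n) = h1.isoPullback.inv ≫ b n :=
        (Iso.eq_inv_comp _).2 h1.isoPullback_hom_snd
      have h3 := hflatb n
      change Flat (pullback.snd (i ≫ f) (CohB1.specQuot 𝔪 n))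
      rw [h2]
      infer_instance
    · rw [hx]
      exact le_rfl
  have hker0 : (K 0).subschemeι.ker = (ι ≫ j).ker := by
    rw [Scheme.IdealSheafData.ker_subschemeι, hK0]
  let e₀ : X₀ ⟶ (K 0).subscheme := IsClosedImmersion.lift (K 0).subschemeι (ι ≫ j) hker0.le
  have he₀ : e₀ ≫ h 0 = ι ≫ j := IsClosedImmersion.lift_fac _ _ _
  have hie : IsIso e₀ := IsClosedImmersion.isIso_lift (K 0).subschemeι (ι ≫ j) hker0
  let ρ : R ⧸ 𝔪 ^ (0 + 1) →+* IsLocalRing.ResidueField R :=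
    Ideal.Quotient.lift (𝔪 ^ (0 + 1)) (IsLocalRing.residue R) (fun a ha => by
      rw [zero_add, pow_one] at ha
      exact (IsLocalRing.residue_eq_zero_iff a).2 ha)
  have hρ : Function.Bijective ρ := by
    refine ⟨?_, Ideal.Quotient.lift_surjective_of_surjective _ _ IsLocalRing.residue_surjective⟩
    rw [injective_iff_map_eq_zero]
    intro a ha
    obtain ⟨a, rfl⟩ := Ideal.Quotient.mk_surjective a
    rw [Ideal.Quotient.lift_mk, IsLocalRing.residue_eq_zero_iff] at ha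
    rw [Ideal.Quotient.eq_zero_iff_mem, zero_add, pow_one]
    exact ha
  let c : Spec (CommRingCat.of (IsLocalRing.ResidueField R)) ⟶ Spec (CommRingCat.of (R ⧸ 𝔪 ^ (0 + 1))) :=
    Spec.map (CommRingCat.ofHom ρ)
  have hc : c ≫ CohB1.specQuot 𝔪 0 = Spec.map (CommRingCat.ofHom (IsLocalRing.residue R)) := by
    rw [CohB1.specQuot, ← Spec.map_comp, ← CommRingCat.ofHom_comp]
    rfl
  have hci' : IsIso c := by
    have : IsIso (CommRingCat.ofHom ρ) := (ConcreteCategory.isIso_iff_bijective _).2 hρ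
    infer_instance
  let s := pullback.snd f (Spec.map (CommRingCat.ofHom (IsLocalRing.residue R)))
  have hcomm : e₀ ≫ b 0 = (ι ≫ s) ≫ c := by
    rw [← cancel_mono (CohB1.specQuot 𝔪 0), Category.assoc, hb, reassoc_of% he₀, Category.assoc, Category.assoc, hc]
    congr 1
    exact pullback.condition
  have hP1 : IsPullback e₀ (ι ≫ s) (b 0) c := IsPullback.of_horiz_isIso ⟨hcomm⟩
  have hP2 : IsPullback (e₀ ≫ v 0) (ι ≫ s) (i ≫ f) (Spec.map (CommRingCat.ofHom (IsLocalRing.residue R))) := by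
    have h1 := hP1.paste_horiz (hsq 0)
    rw [hc] at h1
    exact h1
  refine ⟨W, i, e₀ ≫ v 0, hi, hflat, ?_⟩
  refine IsPullback.of_bot hP2 ?_ (IsPullback.of_hasPullback f (Spec.map (CommRingCat.ofHom (IsLocalRing.residue R))))
  rw [Category.assoc]
  exact (congrArg (e₀ ≫ ·) (hvi 0)).trans he₀

end Main

end K695.LciLift
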