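import Groth.Agent.Lift.K695.LciAlg
import Groth.Agent.Lift.K695.ExtSplit
import Groth.Agent.Sga67.KosConormal
import Groth.Agent.Krr.H487.LocBasisPull
import Groth.Agent.Krr.H496.ConMapSec
import Groth.Agent.Divis.IdealComap

/-!
# Lifting locally complete intersections: one step
-/

set_option autoImplicit false
universe u
open CategoryTheory CategoryTheory.Limits CategoryTheory.Abelian AlgebraicGeometry Opposite TopologicalSpace

namespace K695.LciStep

open Groth.Agent Groth.Agent.Sga67.Sec Groth.Agent.Sga67.LocBasis K695.LciAlg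
open Groth.Agent.Krr.H487.LocBasisPull

section LB

variable {Y : Scheme.{u}} {M N : Y.Modules}

/-- Short exactness from adapted local bases. -/
theorem shortExact_of_locBasis (a : Coh.structureModule Y ⟶ M) (b : M ⟶ N)
    (H : ∀ y : Y, ∃ (V : Y.Opens) (κ : Type) (_ : Fintype κ) (m : Option κ → Sec M V) (n : κ → Sec N V),
      y ∈ V ∧ IsLocBasis m ∧ IsLocBasis n ∧ appS a V (one Y V) = m none ∧ appS b V (m none) = 0 ∧
        ∀ k, appS b V (m (some k)) = n k) :
    ∃ w : a ≫ b = 0, (ShortComplex.mk a b w).ShortExact := by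
  have ha : ∀ {V W : Y.Opens} (h : W ≤ V) (s : Sec (Coh.structureModule Y) W),
      appS a W s = toO s • res M h (appS a V (one Y V)) := by
    intro V W h s
    rw [← appS_res, res_one]
    conv_lhs => rw [← toO_smul_one s]
    rw [map_smul]
  have hcomb : ∀ {κ : Type} [Fintype κ] {V W : Y.Opens} (h : W ≤ V) (m : Option κ → Sec M V)
      (r : Option κ → Γ(Y, W)), comb m h r = r none • res M h (m none) + ∑ k, r (some k) • res M h (m (some k)) := by
    intro κ _ V W h m r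
    rw [comb_apply, Fintype.sum_option]
  have hb : ∀ {κ : Type} [Fintype κ] {V W : Y.Opens} (h : W ≤ V) (m : Option κ → Sec M V) (n : κ → Sec N V)
      (_ : appS b V (m none) = 0) (_ : ∀ k, appS b V (m (some k)) = n k) (r : Option κ → Γ(Y, W)),
      appS b W (comb m h r) = comb n h (fun k => r (some k)) := by
    intro κ _ V W h m n h0 h1 r
    rw [hcomb, map_add, map_smul, appS_res, h0, map_zero, smul_zero, zero_add, map_sum, comb_apply]
    refine Finset.sum_congr rfl fun k _ => ?_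
    rw [map_smul, appS_res, h1]
  have w : a ≫ b = 0 := by
    refine hom_ext_of_locally fun y U hy => ?_
    obtain ⟨V, κ, _, m, n, hyV, hm, hn, h0, h1, h2⟩ := H y
    refine ⟨U ⊓ V, inf_le_left, ⟨hy, hyV⟩, fun s => ?_⟩
    rw [appS_comp, ha (inf_le_right : U ⊓ V ≤ V), h0, map_smul, appS_res, h1, map_zero, smul_zero]
    rfl
  refine ⟨w, ?_⟩
  have hmono : Mono a := by
    refine mono_of_locally_injective a fun y U hy => ?_
    obtain ⟨V, κ, _, m, n, hyV, hm, hn, h0, h1, h2⟩ := H y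
    refine ⟨U ⊓ V, inf_le_left, ⟨hy, hyV⟩, fun s hs => ?_⟩
    rw [ha (inf_le_right : U ⊓ V ≤ V), h0] at hs
    have h3 : comb m (inf_le_right : U ⊓ V ≤ V) (fun k => k.elim (toO s) (fun _ => 0)) = 0 := by
      rw [hcomb]
      simp only [Option.elim, hs, zero_smul, Finset.sum_const_zero, add_zero]
    have h4 := (hm _ _).1 (h3.trans (map_zero (comb m (inf_le_right : U ⊓ V ≤ V))).symm)
    exact congrFun h4 none
  have hepi : Epi b := by
    refine epi_of_locally_surjective b fun U s y hy => ?_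
    obtain ⟨V, κ, _, m, n, hyV, hm, hn, h0, h1, h2⟩ := H y
    obtain ⟨r, hr⟩ := (hn (U ⊓ V) inf_le_right).2 (res N inf_le_left s)
    refine ⟨U ⊓ V, inf_le_left, ⟨hy, hyV⟩, comb m inf_le_right (fun k => k.elim 0 r), ?_⟩
    rw [hb _ m n h1 h2]
    exact hr
  have hex : (ShortComplex.mk a b w).Exact := by
    refine exact_of_locally fun U s hs y hy => ?_
    obtain ⟨V, κ, _, m, n, hyV, hm, hn, h0, h1, h2⟩ := H y
    obtain ⟨r, hr⟩ := (hm (U ⊓ V) inf_le_right).2 (res M inf_le_left s)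
    have h3 : comb n (inf_le_right : U ⊓ V ≤ V) (fun k => r (some k)) = 0 := by
      rw [← hb _ m n h1 h2, hr, appS_res]
      have hs' : appS b U s = 0 := hs
      rw [hs', map_zero]
    have h4 := (hn _ _).1 (h3.trans (map_zero (comb n (inf_le_right : U ⊓ V ≤ V))).symm)
    refine ⟨U ⊓ V, inf_le_left, ⟨hy, hyV⟩, (show Sec (Coh.structureModule Y) (U ⊓ V) from r none), ?_⟩
    change appS a (U ⊓ V) _ = _
    rw [ha (inf_le_right : U ⊓ V ≤ V), h0, ← hr, hcomb]
    have h5 : ∀ k, r (some k) = 0 := fun k => congrFun h4 k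
    simp only [h5, zero_smul, Finset.sum_const_zero, add_zero]
    rfl
  exact { exact := hex }

end LB

section KerIdeal

variable {P X₀ : Scheme.{u}} (I : P.IdealSheafData) (i : X₀ ⟶ P)

/-- A linear map `I ⟶ i_* O`, given on affine opens. -/
structure Rho where
  /-- the map -/
  ρ : ∀ U : P.affineOpens, I.ideal U → Γ(X₀, i ⁻¹ᵁ U.1)
  add : ∀ (U : P.affineOpens) (x y : I.ideal U), ρ U (x + y) = ρ U x + ρ U y
  smul : ∀ (U : P.affineOpens) (b : Γ(P, U.1)) (x : I.ideal U), ρ U (b • x) = i.app U.1 b * ρ U x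
  nat : ∀ (U V : P.affineOpens) (h : V.1 ≤ U.1) (x : I.ideal U) (y : I.ideal V),
    (y : Γ(P, V.1)) = resO P h x → ρ V y = resO X₀ (i.preimage_mono h) (ρ U x)

variable {I i} (r : Rho I i)

/-- The kernel on an affine open. -/
def Rho.ker (U : P.affineOpens) : Ideal Γ(P, U.1) where
  carrier := {x | ∃ y : I.ideal U, (y : Γ(P, U.1)) = x ∧ r.ρ U y = 0}
  add_mem' := by
    rintro _ _ ⟨x, rfl, hx⟩ ⟨y, rfl, hy⟩
    exact ⟨x + y, rfl, by rw [r.add, hx, hy, add_zero]⟩
  zero_mem' := ⟨0, rfl, by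
    have h := r.smul U 0 0
    rwa [zero_smul, map_zero, zero_mul] at h⟩
  smul_mem' := by
    rintro b _ ⟨x, rfl, hx⟩
    exact ⟨b • x, rfl, by rw [r.smul, hx, mul_zero]⟩

theorem Rho.mem_ker {U : P.affineOpens} {x : Γ(P, U.1)} :
    x ∈ r.ker U ↔ ∃ y : I.ideal U, (y : Γ(P, U.1)) = x ∧ r.ρ U y = 0 := Iff.rfl

/-- The kernel ideal sheaf. -/
noncomputable def Rho.kerSheaf [IsAffineHom i] : P.IdealSheafData where
  ideal := r.ker
  map_ideal_basicOpen := by
    intro U f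
    have inst := U.2.isLocalization_basicOpen f
    have h0 : (P.presheaf.map (homOfLE (P.basicOpen_le f)).op).hom = algebraMap _ _ := rfl
    apply le_antisymm
    · rw [Ideal.map_le_iff_le_comap]
      rintro _ ⟨x, rfl, hx⟩
      have h1 : resO P (P.basicOpen_le f) x ∈ I.ideal (P.affineBasicOpen f) := by
        rw [← I.map_ideal_basicOpen]
        exact Ideal.mem_map_of_mem _ x.2
      refine ⟨⟨_, h1⟩, rfl, ?_⟩
      rw [r.nat U (P.affineBasicOpen f) (P.basicOpen_le f) x ⟨_, h1⟩ rfl, hx, map_zero]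
    · rintro y ⟨⟨y', hy'⟩, rfl, hy⟩
      let z : Γ(P, P.basicOpen f) := y'
      have hy2 : z ∈
          (I.ideal U).map (algebraMap Γ(P, U.1) Γ(P, P.basicOpen f)) := by
        have h00 := hy'
        rw [← I.map_ideal_basicOpen] at h00
        exact h00
      obtain ⟨⟨x, ⟨_, k, rfl⟩⟩, hk⟩ := (IsLocalization.mem_map_algebraMap_iff (.powers f) Γ(P, P.basicOpen f)).1 hy2
      have hk' : z * resO P (P.basicOpen_le f) (f ^ k) =
        resO P (P.basicOpen_le f) (x : Γ(P, U.1)) := hk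
      have hx0 : resO P (P.basicOpen_le f) (x : Γ(P, U.1)) ∈ I.ideal (P.affineBasicOpen f) := by
        rw [← I.map_ideal_basicOpen]; exact Ideal.mem_map_of_mem _ x.2
      have h1 : r.ρ (P.affineBasicOpen f) ⟨_, hx0⟩ = 0 := by
        have h2 : (⟨_, hx0⟩ : I.ideal (P.affineBasicOpen f)) =
            (show Γ(P, (P.affineBasicOpen f).1) from resO P (P.basicOpen_le f) (f ^ k)) • ⟨y', hy'⟩ := by
          apply Subtype.ext
          change resO P (P.basicOpen_le f) (x : Γ(P, U.1)) = resO P (P.basicOpen_le f) (f ^ k) * z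
          rw [← hk', mul_comm]
        rw [h2, r.smul, hy, mul_zero]
      rw [r.nat U (P.affineBasicOpen f) (P.basicOpen_le f) x _ rfl] at h1
      have hV : IsAffineOpen (i ⁻¹ᵁ U.1) := U.2.preimage i
      have h4 : X₀.basicOpen (i.app U.1 f) = i ⁻¹ᵁ P.basicOpen f := (Scheme.preimage_basicOpen i f).symm
      have h5 : X₀.basicOpen (i.app U.1 f) ≤ i ⁻¹ᵁ P.basicOpen f := h4.le
      have h6 : resO X₀ (X₀.basicOpen_le (i.app U.1 f)) (r.ρ U x) = 0 := by
        have h7 : resO X₀ h5 (resO X₀ (i.preimage_mono (P.basicOpen_le f)) (r.ρ U x)) = 0 :=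
          (congrArg (resO X₀ h5) h1).trans (map_zero _)
        rwa [resO_resO] at h7
      obtain ⟨l, hl⟩ := exists_pow_mul_eq_zero_of_res_basicOpen_eq_zero_of_isAffineOpen X₀ hV
        (r.ρ U x) (i.app U.1 f) h6
      have h8 : f ^ l * (x : Γ(P, U.1)) ∈ r.ker U := by
        refine ⟨f ^ l • x, rfl, ?_⟩
        rw [r.smul, map_pow]
        exact hl
      refine (show z ∈
        (r.ker U).map (algebraMap Γ(P, U.1) Γ(P, P.basicOpen f)) from ?_)
      refine (IsLocalization.mem_map_algebraMap_iff (.powers f) Γ(P, P.basicOpen f)).2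
        ⟨⟨⟨_, h8⟩, ⟨f ^ (l + k), l + k, rfl⟩⟩, ?_⟩
      change z * resO P (P.basicOpen_le f) (f ^ (l + k)) =
        resO P (P.basicOpen_le f) (f ^ l * (x : Γ(P, U.1)))
      rw [pow_add, map_mul, map_mul, ← hk']
      ring

theorem Rho.mem_kerSheaf [IsAffineHom i] {U : P.affineOpens} {x : Γ(P, U.1)} :
    x ∈ r.kerSheaf.ideal U ↔ ∃ y : I.ideal U, (y : Γ(P, U.1)) = x ∧ r.ρ U y = 0 := Iff.rfl

theorem Rho.kerSheaf_le [IsAffineHom i] : r.kerSheaf ≤ I := by
  intro U x hx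
  obtain ⟨y, rfl, -⟩ := r.mem_kerSheaf.1 hx
  exact y.2

end KerIdeal

section Geom

open RingTheory.Sequence

variable {P P₀ X₀ : Scheme.{u}} (j : P₀ ⟶ P) [IsClosedImmersion j] (ι : X₀ ⟶ P₀) [IsClosedImmersion ι]
  (w : Γ(P, ⊤))

/-- the restriction of `w` -/
noncomputable def wr (U : P.Opens) : Γ(P, U) := resO P le_top w

theorem resO_wr {U V : P.Opens} (h : V ≤ U) : resO P h (wr w U) = wr w V := resO_resO _ _ _

/-- `K = (w^(n+1), fs)` and `K₀ = (w, fs)` locally, `fs` regular modulo `w`. -/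
structure Good (K : P.IdealSheafData) (n : ℕ) : Prop where
  le : K ≤ (ι ≫ j).ker
  chart : ∀ x : P, ∃ (U : P.affineOpens) (fs : List Γ(P, U.1)), x ∈ U.1 ∧ Reg (Ideal.span {wr w U.1}) fs ∧
    (ι ≫ j).ker.ideal U = Ideal.span {wr w U.1} ⊔ Ideal.ofList fs ∧
    K.ideal U = Ideal.span {wr w U.1 ^ (n + 1)} ⊔ Ideal.ofList fs

theorem ideal_ker_comp (U : P.affineOpens) :
    (ι ≫ j).ker.ideal U = (ι.ker.ideal ⟨j ⁻¹ᵁ U.1, U.2.preimage j⟩).comap (j.app U.1).hom := by
  rw [Scheme.Hom.ker_apply, Scheme.Hom.ker_apply]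
  ext x
  rw [RingHom.mem_ker, Ideal.mem_comap, RingHom.mem_ker]
  rfl

variable {j w}

theorem isWeaklyRegular_app_iff (hj : ∀ U : P.affineOpens, j.ker.ideal U = Ideal.span {wr w U.1})
    (U : P.affineOpens) (fs : List Γ(P, U.1)) :
    IsWeaklyRegular Γ(P₀, j ⁻¹ᵁ U.1) (fs.map (j.app U.1)) ↔ Reg (Ideal.span {wr w U.1}) fs := by
  let _ : Algebra Γ(P, U.1) Γ(P₀, j ⁻¹ᵁ U.1) := (j.app U.1).hom.toAlgebra
  have hs : Function.Surjective (Algebra.linearMap Γ(P, U.1) Γ(P₀, j ⁻¹ᵁ U.1)) := j.app_surjective U.1 U.2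
  have hk : LinearMap.ker (Algebra.linearMap Γ(P, U.1) Γ(P₀, j ⁻¹ᵁ U.1)) = Ideal.span {wr w U.1} := by
    rw [← hj, Scheme.Hom.ker_apply]
    rfl
  let e : (Γ(P, U.1) ⧸ Ideal.span {wr w U.1}) ≃ₗ[Γ(P, U.1)] Γ(P₀, j ⁻¹ᵁ U.1) :=
    (Submodule.quotEquivOfEq _ _ hk.symm).trans (LinearMap.quotKerEquivOfSurjective _ hs)
  rw [← LciAlg.isWeaklyRegular_iff, e.isWeaklyRegular_congr]
  exact isWeaklyRegular_map_algebraMap_iff Γ(P₀, j ⁻¹ᵁ U.1) Γ(P₀, j ⁻¹ᵁ U.1) fs

variable {ι}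

theorem ker_ι_ideal (hj : ∀ U : P.affineOpens, j.ker.ideal U = Ideal.span {wr w U.1})
    (U : P.affineOpens) (fs : List Γ(P, U.1))
    (hfs : (ι ≫ j).ker.ideal U = Ideal.span {wr w U.1} ⊔ Ideal.ofList fs) :
    ι.ker.ideal ⟨j ⁻¹ᵁ U.1, U.2.preimage j⟩ = Ideal.ofList (fs.map (j.app U.1)) := by
  have hs : Function.Surjective (j.app U.1).hom := j.app_surjective U.1 U.2
  rw [ideal_ker_comp] at hfs
  rw [← Ideal.map_comap_of_surjective _ hs (ι.ker.ideal ⟨j ⁻¹ᵁ U.1, U.2.preimage j⟩), hfs, Ideal.map_sup,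
    Ideal.map_span, Set.image_singleton]
  have h1 : (j.app U.1).hom (wr w U.1) = 0 := by
    have h2 : wr w U.1 ∈ j.ker.ideal U := by rw [hj]; exact Ideal.mem_span_singleton_self _
    rw [Scheme.Hom.ker_apply] at h2
    exact h2
  rw [h1, Ideal.span_singleton_eq_bot.2 rfl, bot_sup_eq, Ideal.map_ofList]

/-- The chart of the closed immersion of `V(K)`. -/
noncomputable def chartK (hw : ∀ U : P.affineOpens, Nzd (⊥ : Ideal Γ(P, U.1)) (wr w U.1)) {K : P.IdealSheafData}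
    {n : ℕ} (U : P.affineOpens) (fs : List Γ(P, U.1)) (hreg : Reg (Ideal.span {wr w U.1}) fs)
    (hK : K.ideal U = Ideal.span {wr w U.1 ^ (n + 1)} ⊔ Ideal.ofList fs) : Sga67.KosImm.Chart K.subschemeι where
  U := U.1
  hU := U.2
  l := wr w U.1 ^ (n + 1) :: fs
  hl := isWeaklyRegular_cons_pow (hw U) hreg n
  hker := by
    rw [Scheme.IdealSheafData.ker_subschemeι, Ideal.ofList_cons]
    exact hK

/-- The chart of the closed immersion `ι`. -/
noncomputable def chartι (hj : ∀ U : P.affineOpens, j.ker.ideal U = Ideal.span {wr w U.1})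
    (U : P.affineOpens) (fs : List Γ(P, U.1)) (hreg : Reg (Ideal.span {wr w U.1}) fs)
    (hfs : (ι ≫ j).ker.ideal U = Ideal.span {wr w U.1} ⊔ Ideal.ofList fs) : Sga67.KosImm.Chart ι where
  U := j ⁻¹ᵁ U.1
  hU := U.2.preimage j
  l := fs.map (j.app U.1)
  hl := (isWeaklyRegular_app_iff hj U fs).2 hreg
  hker := ker_ι_ideal hj U fs hfs

section Exact

open Groth.Agent.Grpsch.ConormalIso Groth.Agent.Krr.H496.ConMapSec Groth.Agent.Dix.IdealModCartier

variable {K : P.IdealSheafData} {n : ℕ} (t : X₀ ⟶ K.subscheme) (ht : t ≫ K.subschemeι = ι ≫ j)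

/-- The class of a section of the ideal. -/
noncomputable def cls {U : P.Opens} (s : Sec (ClSub.idealMod K.subschemeι.ker) U) :
    Sec ((Scheme.Modules.pullback t).obj (Omega.conormal K.subschemeι)) (t ⁻¹ᵁ (K.subschemeι ⁻¹ᵁ U)) :=
  pbS t (Omega.conormal K.subschemeι) (pbS K.subschemeι (ClSub.idealMod K.subschemeι.ker) s)

omit [IsClosedImmersion j] [IsClosedImmersion ι] in
theorem exists_global {I : P.IdealSheafData} (h : ∀ x : P, ∃ U : P.affineOpens, x ∈ U.1 ∧ wr w U.1 ^ (n + 1) ∈ I.ideal U) :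
    ∃ s : Sec (ClSub.idealMod I) ⊤, val I s = w ^ (n + 1) := by
  refine (PerfA.IdealModule.exact_app I ⊤ _).1 ?_
  refine (PerfA.IdealModule.toSubscheme_app_apply I ⊤ (w ^ (n + 1))).trans ?_
  refine eqO_of_locally fun z hz => ?_
  obtain ⟨U, hx, hU⟩ := h (I.subschemeι z)
  refine ⟨I.subschemeι ⁻¹ᵁ U.1, le_top, hx, ?_⟩
  refine Eq.trans ?_ (map_zero (resO I.subscheme (le_top : I.subschemeι ⁻¹ᵁ U.1 ≤ ⊤))).symm
  have h1 : (I.subschemeι.app U.1).hom (wr w U.1 ^ (n + 1)) = 0 := by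
    rw [← RingHom.mem_ker, I.ker_subschemeι_app U]
    exact hU
  have h2 : wr w U.1 ^ (n + 1) = resO P le_top (w ^ (n + 1)) := (map_pow _ _ _).symm
  rw [h2] at h1
  refine Eq.trans ?_ h1
  exact (congr($(I.subschemeι.naturality (homOfLE (le_top : U.1 ≤ ⊤)).op) (w ^ (n + 1)))).symm

omit [IsClosedImmersion j] [IsClosedImmersion ι] in
theorem res_cls {U V : P.Opens} (h : V ≤ U) (s : Sec (ClSub.idealMod K.subschemeι.ker) U)
    (h' : t ⁻¹ᵁ (K.subschemeι ⁻¹ᵁ V) ≤ t ⁻¹ᵁ (K.subschemeι ⁻¹ᵁ U)) :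
    res _ h' (cls t s) = cls t (res _ h s) := by
  refine (res_pbS t (Omega.conormal K.subschemeι) (K.subschemeι.preimage_mono h) h' _).trans ?_
  exact congrArg (pbS t (Omega.conormal K.subschemeι)) (res_pbS K.subschemeι _ h (K.subschemeι.preimage_mono h) s)

omit [IsClosedImmersion j] [IsClosedImmersion ι] in
theorem cls_add {U : P.Opens} (s s' : Sec (ClSub.idealMod K.subschemeι.ker) U) :
    cls t (s + s') = cls t s + cls t s' := by
  have h1 : pbS K.subschemeι (ClSub.idealMod K.subschemeι.ker) (s + s') =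
    pbS K.subschemeι (ClSub.idealMod K.subschemeι.ker) s + pbS K.subschemeι (ClSub.idealMod K.subschemeι.ker) s' :=
    map_add _ _ _
  exact (congrArg (pbS t (Omega.conormal K.subschemeι)) h1).trans (map_add _ _ _)

omit [IsClosedImmersion j] [IsClosedImmersion ι] in
theorem cls_smul {U : P.Opens} (b : Γ(P, U)) (s : Sec (ClSub.idealMod K.subschemeι.ker) U) :
    cls t (b • s) = (show Γ(X₀, t ⁻¹ᵁ (K.subschemeι ⁻¹ᵁ U)) from (t ≫ K.subschemeι).app U b) • cls t s :=
  (congrArg (pbS t (Omega.conormal K.subschemeι)) (pbS_smul K.subschemeι _ b s)).trans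
    (pbS_smul t (Omega.conormal K.subschemeι) _ _)

omit [IsClosedImmersion j] in
theorem map_cls {U : P.Opens} (s : Sec (ClSub.idealMod K.subschemeι.ker) U)
    (s' : Sec (ClSub.idealMod ι.ker) (j ⁻¹ᵁ U)) (h : val ι.ker s' = j.app U (val K.subschemeι.ker s))
    {W : X₀.Opens} (h1 : W ≤ t ⁻¹ᵁ (K.subschemeι ⁻¹ᵁ U)) (h2 : W ≤ ι ⁻¹ᵁ (j ⁻¹ᵁ U)) :
    res (Omega.conormal ι) h1 (appS (conormalMap ht.symm) _ (cls t s)) =
      res (Omega.conormal ι) h2 (pbS ι (ClSub.idealMod ι.ker) s') := by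
  refine (conormalMap_pbS ht.symm s h1 h2).trans ?_
  congr 2
  apply val_injective ι.ker
  exact (val_idMap ht.symm s).trans h.symm

theorem exists_shortExact (hw : ∀ U : P.affineOpens, Nzd (⊥ : Ideal Γ(P, U.1)) (wr w U.1))
    (hj : ∀ U : P.affineOpens, j.ker.ideal U = Ideal.span {wr w U.1}) (hK : Good j ι w K n)
    (s₀ : Sec (ClSub.idealMod K.subschemeι.ker) ⊤) (hs₀ : val K.subschemeι.ker s₀ = w ^ (n + 1)) :
    ∃ w' : homUnit _ (cls t s₀) ≫ conormalMap ht.symm = 0, (ShortComplex.mk _ _ w').ShortExact := by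
  refine shortExact_of_locBasis _ _ fun y => ?_
  obtain ⟨U, fs, hx, hreg, h0, hK'⟩ := hK.chart ((ι ≫ j) y)
  let c := chartK hw U fs hreg hK'
  let d := chartι hj U fs hreg h0
  let e : Option (Fin fs.length) ≃ Fin (fs.length + 1) := (finSuccEquiv fs.length).symm
  let e' : Fin fs.length ≃ Fin (fs.map (j.app U.1)).length := finCongr (List.length_map _).symm
  let F : Fin (fs.length + 1) → Sec (ClSub.idealMod K.subschemeι.ker) U.1 := fun k => Sga67.KosConormal.fI c k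
  let G : Fin (fs.map (j.app U.1)).length → Sec (ClSub.idealMod ι.ker) (j ⁻¹ᵁ U.1) :=
    fun k => Sga67.KosConormal.fI d k
  have hF0 : val K.subschemeι.ker (F 0) = wr w U.1 ^ (n + 1) :=
    Sga67.KosConormal.vl_fI c (0 : Fin (fs.length + 1))
  have hFs : ∀ k : Fin fs.length, val K.subschemeι.ker (F k.succ) = fs.get k := fun k =>
    Sga67.KosConormal.vl_fI c (k.succ : Fin (fs.length + 1))
  have hG : ∀ k : Fin fs.length, val ι.ker (G (e' k)) = j.app U.1 (fs.get k) := by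
    intro k
    refine (Sga67.KosConormal.vl_fI d (e' k)).trans ?_
    change (fs.map (j.app U.1)).get (e' k) = _
    simp [e']
  have hbF : IsLocBasis (M := Omega.conormal K.subschemeι) (U := K.subschemeι ⁻¹ᵁ U.1)
    (fun k => pbS K.subschemeι (ClSub.idealMod K.subschemeι.ker) (F k)) := Sga67.KosConormal.isLocBasis_fN c
  have hbG : IsLocBasis (M := Omega.conormal ι) (U := ι ⁻¹ᵁ (j ⁻¹ᵁ U.1))
    (fun k => pbS ι (ClSub.idealMod ι.ker) (G k)) := Sga67.KosConormal.isLocBasis_fN d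
  have hy1 : y ∈ t ⁻¹ᵁ (K.subschemeι ⁻¹ᵁ U.1) := by
    change (t ≫ K.subschemeι) y ∈ U.1
    rw [ht]
    exact hx
  have hjw : j.app U.1 (wr w U.1) = 0 := by
    have h4 : wr w U.1 ∈ j.ker.ideal U := by rw [hj]; exact Ideal.mem_span_singleton_self _
    rw [Scheme.Hom.ker_apply] at h4
    exact h4
  refine ⟨t ⁻¹ᵁ (K.subschemeι ⁻¹ᵁ U.1) ⊓ ι ⁻¹ᵁ (j ⁻¹ᵁ U.1), Fin fs.length, inferInstance,
    fun k => res _ inf_le_left (cls t (F (e k))),
    fun k => res _ inf_le_right (pbS ι (ClSub.idealMod ι.ker) (G (e' k))), ⟨hy1, hx⟩, ?_, ?_, ?_, ?_, ?_⟩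
  · exact ((isLocBasis_pbS t hbF).restrict inf_le_left).reindex e
  · exact (hbG.restrict inf_le_right).reindex e'
  · have hc0 : res (ClSub.idealMod K.subschemeι.ker) (le_top : U.1 ≤ ⊤) s₀ = F 0 := by
      apply val_injective K.subschemeι.ker
      have h2 : val K.subschemeι.ker (res _ (le_top : U.1 ≤ ⊤) s₀) = resO P le_top (val K.subschemeι.ker s₀) :=
        Sga67.KosConormal.vl_rs K.subschemeι.ker (le_top : U.1 ≤ ⊤) s₀
      refine h2.trans ?_
      rw [hF0, hs₀, map_pow]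
      rfl
    have h3 := res_cls t (le_top : U.1 ≤ ⊤) s₀ (t.preimage_mono (K.subschemeι.preimage_mono le_top))
    rw [hc0] at h3
    have h4 := congrArg (res _ (inf_le_left : t ⁻¹ᵁ (K.subschemeι ⁻¹ᵁ U.1) ⊓ ι ⁻¹ᵁ (j ⁻¹ᵁ U.1) ≤ _)) h3
    rw [res_res] at h4
    exact (homUnit_one _ _ _).trans h4
  · have h2 := map_cls t ht (F 0)
      (0 : Sec (ClSub.idealMod ι.ker) (j ⁻¹ᵁ U.1)) (by
        rw [hF0, map_pow, hjw, zero_pow n.succ_ne_zero]
        exact Sga67.KosConormal.vl_zero ι.ker)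
      (inf_le_left : t ⁻¹ᵁ (K.subschemeι ⁻¹ᵁ U.1) ⊓ ι ⁻¹ᵁ (j ⁻¹ᵁ U.1) ≤ _) inf_le_right
    have h3 : pbS ι (ClSub.idealMod ι.ker) (0 : Sec (ClSub.idealMod ι.ker) (j ⁻¹ᵁ U.1)) = 0 := map_zero _
    exact (appS_res _ _ _).trans (h2.trans ((congrArg (res (Omega.conormal ι) inf_le_right) h3).trans
      (map_zero (res (Omega.conormal ι) inf_le_right))))
  · intro k
    refine (appS_res _ _ _).trans ?_
    exact map_cls t ht (F k.succ) (G (e' k)) (by rw [hFs, hG])
      (inf_le_left : t ⁻¹ᵁ (K.subschemeι ⁻¹ᵁ U.1) ⊓ ι ⁻¹ᵁ (j ⁻¹ᵁ U.1) ≤ _) inf_le_right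

section

variable (r : (Scheme.Modules.pullback t).obj (Omega.conormal K.subschemeι) ⟶ Coh.structureModule X₀)

/-- The function attached to a section of the ideal by a linear form on the classes. -/
noncomputable def rho (U : P.Opens) (s : Sec (ClSub.idealMod K.subschemeι.ker) U) :
    Γ(X₀, (t ≫ K.subschemeι) ⁻¹ᵁ U) :=
  toO (appS r (t ⁻¹ᵁ (K.subschemeι ⁻¹ᵁ U)) (cls t s))

omit [IsClosedImmersion j] [IsClosedImmersion ι] in
theorem rho_add {U : P.Opens} (s s' : Sec (ClSub.idealMod K.subschemeι.ker) U) :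
    rho t r U (s + s') = rho t r U s + rho t r U s' :=
  (congrArg (fun z => toO (appS r (t ⁻¹ᵁ (K.subschemeι ⁻¹ᵁ U)) z)) (cls_add t s s')).trans
    (congrArg toO (map_add (appS r (t ⁻¹ᵁ (K.subschemeι ⁻¹ᵁ U))) _ _))

omit [IsClosedImmersion j] [IsClosedImmersion ι] in
theorem rho_smul {U : P.Opens} (b : Γ(P, U)) (s : Sec (ClSub.idealMod K.subschemeι.ker) U) :
    rho t r U (b • s) = (t ≫ K.subschemeι).app U b * rho t r U s :=
  (congrArg (fun z => toO (appS r (t ⁻¹ᵁ (K.subschemeι ⁻¹ᵁ U)) z)) (cls_smul t b s)).trans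
    (congrArg toO (map_smul (appS r (t ⁻¹ᵁ (K.subschemeι ⁻¹ᵁ U))) _ _))

omit [IsClosedImmersion j] [IsClosedImmersion ι] in
theorem rho_res {U V : P.Opens} (h : V ≤ U) (s : Sec (ClSub.idealMod K.subschemeι.ker) U) :
    rho t r V (res _ h s) = resO X₀ ((t ≫ K.subschemeι).preimage_mono h) (rho t r U s) :=
  (congrArg (fun z => toO (appS r (t ⁻¹ᵁ (K.subschemeι ⁻¹ᵁ V)) z))
    (res_cls t h s (t.preimage_mono (K.subschemeι.preimage_mono h)))).symm.trans
    (congrArg toO (appS_res r (t.preimage_mono (K.subschemeι.preimage_mono h)) (cls t s)))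

omit [IsClosedImmersion j] [IsClosedImmersion ι] in
theorem rho_one (s₀ : Sec (ClSub.idealMod K.subschemeι.ker) ⊤) (hr : homUnit _ (cls t s₀) ≫ r = 𝟙 _) :
    rho t r ⊤ s₀ = 1 := by
  have h1 : appS (homUnit ((Scheme.Modules.pullback t).obj (Omega.conormal K.subschemeι)) (cls t s₀) ≫ r)
    ⊤ (one X₀ ⊤) = appS (𝟙 (Coh.structureModule X₀)) ⊤ (one X₀ ⊤) := by rw [hr]
  have h2 : appS (homUnit ((Scheme.Modules.pullback t).obj (Omega.conormal K.subschemeι)) (cls t s₀)) ⊤ (one X₀ ⊤) =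
    cls t s₀ := (homUnit_one _ _ _).trans (res_self _ _ _)
  have h3 : appS r ⊤ (cls t s₀) = one X₀ ⊤ := (congrArg (appS r ⊤) h2).symm.trans h1
  exact congrArg toO h3

end

/-- **One step of the lifting.** -/
theorem exists_next [HasExt.{u} X₀.Modules] (hw : ∀ U : P.affineOpens, Nzd (⊥ : Ideal Γ(P, U.1)) (wr w U.1))
    (hj : ∀ U : P.affineOpens, j.ker.ideal U = Ideal.span {wr w U.1}) (hK : Good j ι w K n)
    (hN : Subsingleton (Ext.{u} (Omega.conormal ι) (Coh.structureModule X₀) 1)) :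
    ∃ K' : P.IdealSheafData, Good j ι w K' (n + 1) ∧ K = j.ker ^ (n + 1) ⊔ K' := by
  have hle : K.subschemeι.ker ≤ (ι ≫ j).ker := by
    rw [Scheme.IdealSheafData.ker_subschemeι]; exact hK.le
  obtain ⟨t, ht⟩ : ∃ t : X₀ ⟶ K.subscheme, t ≫ K.subschemeι = ι ≫ j :=
    ⟨IsClosedImmersion.lift K.subschemeι (ι ≫ j) hle, IsClosedImmersion.lift_fac _ _ _⟩
  obtain ⟨s₀, hs₀⟩ := exists_global (w := w) (n := n) (I := K.subschemeι.ker) (fun x => by
    obtain ⟨U, fs, hx, -, -, h1⟩ := hK.chart x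
    refine ⟨U, hx, ?_⟩
    rw [Scheme.IdealSheafData.ker_subschemeι, h1]
    exact Submodule.mem_sup_left (Ideal.mem_span_singleton_self _))
  obtain ⟨w', hS⟩ := exists_shortExact t ht hw hj hK s₀ hs₀
  obtain ⟨σ, hσ⟩ := ExtSplit.exists_section hS hN
  obtain ⟨r, hr⟩ := ExtSplit.exists_retraction hS σ hσ
  have hci : IsClosedImmersion (t ≫ K.subschemeι) := by rw [ht]; infer_instance
  have hmem : ∀ (U : P.affineOpens) (x : K.ideal U), (x : Γ(P, U.1)) ∈ K.subschemeι.ker.ideal U := by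
    intro U x
    rw [Scheme.IdealSheafData.ker_subschemeι]
    exact x.2
  have hex : ∀ (U : P.affineOpens) (x : K.ideal U), ∃ s : Sec (ClSub.idealMod K.subschemeι.ker) U.1,
      val K.subschemeι.ker s = x := fun U x =>
    PerfA.IdealModule.exists_val_eq K.subschemeι.ker U (hmem U x)
  choose sec hsec using hex
  have hsecu : ∀ (U : P.affineOpens) (x : K.ideal U) (s : Sec (ClSub.idealMod K.subschemeι.ker) U.1),
      val K.subschemeι.ker s = x → s = sec U x := fun U x s h =>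
    val_injective K.subschemeι.ker (h.trans (hsec U x).symm)
  let R : Rho K (t ≫ K.subschemeι) :=
    { ρ := fun U x => rho t r U.1 (sec U x)
      add := fun U x y => by
        have h1 : sec U x + sec U y = sec U (x + y) := by
          apply hsecu
          have h2 : val K.subschemeι.ker (sec U x + sec U y) =
            val K.subschemeι.ker (sec U x) + val K.subschemeι.ker (sec U y) := map_add _ _ _
          exact h2.trans (congrArg₂ (· + ·) (hsec U x) (hsec U y))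
        rw [← h1, rho_add]
      smul := fun U b x => by
        have h1 : b • (sec U x) = sec U (b • x) := by
          apply hsecu
          have h2 : val K.subschemeι.ker (b • (sec U x)) =
            b * val K.subschemeι.ker (sec U x) := PerfA.IdealModule.val_smul _ _ _
          exact h2.trans (congrArg (b * ·) (hsec U x))
        rw [← h1, rho_smul]
      nat := fun U V h x y hxy => by
        have h1 : res (ClSub.idealMod K.subschemeι.ker) h (sec U x) = sec V y := by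
          apply hsecu
          have h2 : val K.subschemeι.ker (res (ClSub.idealMod K.subschemeι.ker) h (sec U x)) =
            resO P h (val K.subschemeι.ker (sec U x)) := Sga67.KosConormal.vl_rs K.subschemeι.ker h _
          rw [h2, hxy]
          exact congrArg (resO P h) (hsec U x)
        rw [← h1, rho_res] }
  have hR1 : ∀ (U : P.affineOpens) (x : K.ideal U), (x : Γ(P, U.1)) = wr w U.1 ^ (n + 1) → R.ρ U x = 1 := by
    intro U x hx
    have h1 : res (ClSub.idealMod K.subschemeι.ker) (le_top : U.1 ≤ ⊤) s₀ = sec U x := by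
      apply hsecu
      have h2 : val K.subschemeι.ker (res _ (le_top : U.1 ≤ ⊤) s₀) = resO P le_top (val K.subschemeι.ker s₀) :=
        Sga67.KosConormal.vl_rs K.subschemeι.ker (le_top : U.1 ≤ ⊤) s₀
      refine h2.trans ?_
      rw [hx, hs₀, map_pow]
      rfl
    change rho t r U.1 (sec U x) = 1
    rw [← h1, rho_res, rho_one t r s₀ hr, map_one]
  have hker : ∀ U : P.affineOpens, RingHom.ker ((t ≫ K.subschemeι).app U.1).hom = (ι ≫ j).ker.ideal U := by
    intro U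
    have h1 : (t ≫ K.subschemeι).ker.ideal U = (ι ≫ j).ker.ideal U := by rw [ht]
    rw [← h1, Scheme.Hom.ker_apply]
  have key : ∀ x : P, ∃ (U : P.affineOpens) (fs : List Γ(P, U.1)), x ∈ U.1 ∧ Reg (Ideal.span {wr w U.1}) fs ∧
      (ι ≫ j).ker.ideal U = Ideal.span {wr w U.1} ⊔ Ideal.ofList fs ∧
      R.kerSheaf.ideal U = Ideal.span {wr w U.1 ^ (n + 1 + 1)} ⊔ Ideal.ofList fs ∧
      K.ideal U = Ideal.span {wr w U.1 ^ (n + 1)} ⊔ R.kerSheaf.ideal U := by
    intro x
    obtain ⟨U, fs, hx, hreg, h0, hK'⟩ := hK.chart x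
    obtain ⟨fs', h1, h2, h3, h4⟩ := LciAlg.step (C := Γ(X₀, (t ≫ K.subschemeι) ⁻¹ᵁ U.1)) hreg h0 hK'
      ((t ≫ K.subschemeι).app U.1).hom ((t ≫ K.subschemeι).app_surjective U.1 U.2) (hker U) (R.ρ U)
      (R.add U) (R.smul U) (hR1 U) (K' := R.kerSheaf.ideal U) (fun x => R.mem_kerSheaf)
    exact ⟨U, fs', hx, h1, h2, h3, h4⟩
  refine ⟨R.kerSheaf, ⟨R.kerSheaf_le.trans hK.le, fun x => ?_⟩, ?_⟩
  · obtain ⟨U, fs, hx, h1, h2, h3, -⟩ := key x
    exact ⟨U, fs, hx, h1, h2, h3⟩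
  · refine Divis.IdealComap.ext_of_forall_mem fun x => ?_
    obtain ⟨U, fs, hx, h1, h2, h3, h4⟩ := key x
    refine ⟨U, hx, ?_⟩
    rw [Scheme.IdealSheafData.ideal_sup, Scheme.IdealSheafData.ideal_pow, Pi.sup_apply, Pi.pow_apply, hj,
      Ideal.span_singleton_pow]
    exact h4

end Exact

end Geom

end K695.LciStep
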