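import Groth.Agent.Lift.K695.ExtSplit
import Groth.Agent.Krr.H496.PullK0
import Groth.Agent.Sga67.ClosedTens
import Groth.Agent.VarietyB.RestrSeq
import Groth.Agent.VarietyB.TensCoh
import Groth.Agent.FormalA.ThickSurj
import Groth.Agent.Ega2.TensLift

/-!
# Square-zero closed immersions: extensions by modules killed by the ideal

`I : X.IdealSheafData` with `I² = ⊥`, `i : X₀ ⟶ X` its closed subscheme.
* `killed_idealMod`: `I` is killed by `I`; `isIso_η`: `M ≅ i_* i^* M` for `M` killed by `I`;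
* `exists_section`: an extension `0 → K → P → E → 0` with `E` finite locally free and `K` killed by `I` splits if
  `Ext¹(i^* E, i^* K) = 0`;
* `kerη`: `ker (F ⟶ i_* i^* F) ≅ F ⊗ I` for `F` finite locally free;
* `exists_lift`: morphisms `i^* E ⟶ i^* F` lift to `E ⟶ F` if `Ext¹(i^* E, i^* I ⊗ i^* F) = 0`.
-/

set_option autoImplicit false
universe u

open CategoryTheory CategoryTheory.Limits CategoryTheory.Abelian AlgebraicGeometry TopologicalSpace Opposite

namespace K695.SqZero

open Groth.Agent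

variable {X : Scheme.{u}} (I : X.IdealSheafData)

/-- `i^*` -/
noncomputable abbrev pb : X.Modules ⥤ I.subscheme.Modules := Scheme.Modules.pullback I.subschemeι
/-- `i_*` -/
noncomputable abbrev ps : I.subscheme.Modules ⥤ X.Modules := Scheme.Modules.pushforward I.subschemeι
/-- The unit `M ⟶ i_* i^* M`. -/
noncomputable abbrev η (M : X.Modules) : M ⟶ (ps I).obj ((pb I).obj M) :=
  (Scheme.Modules.pullbackPushforwardAdjunction I.subschemeι).unit.app M

variable {I}

theorem η_naturality {M N : X.Modules} (f : M ⟶ N) : η I M ≫ (ps I).map ((pb I).map f) = f ≫ η I N :=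
  ((Scheme.Modules.pullbackPushforwardAdjunction I.subschemeι).unit.naturality f).symm

/-- Morphisms `i^* M ⟶ N` are determined by their transposes. -/
theorem pb_hom_ext {M : X.Modules} {N : I.subscheme.Modules} {f g : (pb I).obj M ⟶ N}
    (h : η I M ≫ (ps I).map f = η I M ≫ (ps I).map g) : f = g := by
  apply ((Scheme.Modules.pullbackPushforwardAdjunction I.subschemeι).homEquiv M N).injective
  rw [Adjunction.homEquiv_unit, Adjunction.homEquiv_unit]
  exact h

theorem killed_idealMod (hI : I ^ 2 = ⊥) : ClSub.KilledByIdeal I (ClSub.idealMod I) := by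
  intro U a ha m
  apply CohqA.IdealMod.idealModι_app_injective I U.1
  have h1 : (ClSub.idealModι I).app U.1 (a • m) = (a • (ClSub.idealModι I).app U.1 m) :=
    Scheme.Modules.Hom.app_smul _ _ _
  have h2 := (CohqA.IdealMod.exists_idealModι_app_iff I U ((ClSub.idealModι I).app U.1 m)).1 ⟨m, rfl⟩
  have h3 : a * (show Γ(X, U.1) from (ClSub.idealModι I).app U.1 m) ∈ (I ^ 2).ideal U := by
    rw [Scheme.IdealSheafData.ideal_pow, Pi.pow_apply, pow_two]
    exact Ideal.mul_mem_mul ha h2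
  rw [hI, Scheme.IdealSheafData.ideal_bot] at h3
  refine (h1.trans ?_).trans (map_zero _).symm
  exact h3

theorem killed_of_iso {M N : X.Modules} (e : M ≅ N) (h : ClSub.KilledByIdeal I M) : ClSub.KilledByIdeal I N := by
  intro U a ha m
  have h1 : e.hom.app U.1 (a • e.inv.app U.1 m) = a • e.hom.app U.1 (e.inv.app U.1 m) :=
    Scheme.Modules.Hom.app_smul _ _ _
  have h2 : e.hom.app U.1 (e.inv.app U.1 m) = m := congr(($(e.inv_hom_id)).app U.1 m)
  have h3 : (a • e.inv.app U.1 m : Γ(M, U.1)) = 0 := h U a ha _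
  rw [h2, h3, map_zero] at h1
  exact h1.symm

theorem isIso_η {M : X.Modules} (h : ClSub.KilledByIdeal I M) : IsIso (η I M) := by
  have h' : ClSub.KilledByIdeal I.subschemeι.ker M := by
    rw [Scheme.IdealSheafData.ker_subschemeι]
    exact h
  exact FormalA.ClosedImm.isIso_unit I.subschemeι h'

theorem killed_ps (N : I.subscheme.Modules) : ClSub.KilledByIdeal I ((ps I).obj N) := by
  have := FormalA.ClosedImm.killed_pushforward I.subschemeι N
  rwa [Scheme.IdealSheafData.ker_subschemeι] at this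

/-- **Splitting of extensions of locally free modules by modules killed by the ideal.** -/
theorem exists_section [HasExt.{u} I.subscheme.Modules] {S : ShortComplex X.Modules} (hS : S.ShortExact)
    (h₃ : FlatMod.IsFinLocFree S.X₃) (h₁ : ClSub.KilledByIdeal I S.X₁)
    (hext : Subsingleton (Ext.{u} ((pb I).obj S.X₃) ((pb I).obj S.X₁) 1)) :
    ∃ s : S.X₃ ⟶ S.X₂, s ≫ S.g = 𝟙 _ := by
  have hT : (S.map (pb I)).ShortExact := Krr.H496.PullK0.shortExact_pullback_of_isFinLocFree I.subschemeι hS h₃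
  obtain ⟨s₀, hs₀⟩ := ExtSplit.exists_section hT hext
  obtain ⟨r₀, hr₀⟩ := ExtSplit.exists_retraction hT s₀ hs₀
  obtain ⟨j, hj, -⟩ := (isIso_η h₁).out
  refine ExtSplit.exists_section_of_retraction hS (η I S.X₂ ≫ (ps I).map r₀ ≫ j) ?_
  have h1 : S.f ≫ η I S.X₂ = η I S.X₁ ≫ (ps I).map ((pb I).map S.f) := (η_naturality S.f).symm
  have h2 : (ps I).map ((pb I).map S.f) ≫ (ps I).map r₀ = 𝟙 _ := by
    rw [← Functor.map_comp]
    exact (congrArg (ps I).map hr₀).trans (CategoryTheory.Functor.map_id _ _)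
  rw [reassoc_of% h1, reassoc_of% h2]
  exact hj

/-- `0 ⟶ F ⊗ I ⟶ F ⟶ i_* i^* F ⟶ 0`. -/
theorem shortExact_η {F : X.Modules} (hF : FlatMod.IsFinLocFree F) :
    ∃ (h : VarietyB.RestrSeq.tensIdealι F I ≫ η I F = 0),
      (ShortComplex.mk (VarietyB.RestrSeq.tensIdealι F I) (η I F) h).ShortExact := by
  have hB := VarietyB.TensCoh.HasBases.of_isFinLocFree hF
  have h1 : VarietyB.RestrSeq.toRestr hB I = η I F := by
    have h2 := FormalA.ThickSurj.tmap_qmap I.subschemeι F hB
    rw [VarietyB.RestrSeq.toRestr, Iso.inv_comp_eq]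
    exact h2
  have h2 := VarietyB.RestrSeq.restrSeq_shortExact hB I
  have h3 : VarietyB.RestrSeq.tensIdealι F I ≫ η I F = 0 := by
    rw [← h1]
    exact VarietyB.RestrSeq.tensIdealι_toRestr hB I
  refine ⟨h3, ?_⟩
  have h4 : VarietyB.RestrSeq.restrSeq hB I = ShortComplex.mk (VarietyB.RestrSeq.tensIdealι F I) (η I F) h3 := by
    rw [VarietyB.RestrSeq.restrSeq]
    congr 1
  rw [← h4]
  exact h2

theorem epi_η {F : X.Modules} (hF : FlatMod.IsFinLocFree F) : Epi (η I F) := by
  obtain ⟨h, hS⟩ := shortExact_η (I := I) hF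
  exact hS.epi_g

/-- `ker (F ⟶ i_* i^* F) ≅ F ⊗ I`. -/
noncomputable def kerη {F : X.Modules} (hF : FlatMod.IsFinLocFree F) :
    kernel (η I F) ≅ CohB1.tensorMod F (ClSub.idealMod I) :=
  IsLimit.conePointUniqueUpToIso (kernelIsKernel (η I F)) (shortExact_η hF).choose_spec.fIsKernel

theorem killed_kerη (hI : I ^ 2 = ⊥) {F : X.Modules} (hF : FlatMod.IsFinLocFree F) :
    ClSub.KilledByIdeal I (kernel (η I F)) :=
  killed_of_iso ((Ega2.Tens.swap (ClSub.idealMod I) F) ≪≫ (kerη hF).symm)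
    (Sga67.ClosedTens.killed_tensor (killed_idealMod hI) F)

open scoped Groth.Agent.Dcoh.MonCat in
/-- `i^* (M ⊗ N) ≅ i^* M ⊗ i^* N`. -/
noncomputable def pbTensor (M N : X.Modules) :
    (pb I).obj (CohB1.tensorMod M N) ≅ CohB1.tensorMod ((pb I).obj M) ((pb I).obj N) :=
  (Sga67.ClosedTens.muIso I.subschemeι M).app N

/-- **Lifting of morphisms between finite locally free modules.** -/
theorem exists_lift (hI : I ^ 2 = ⊥) [HasExt.{u} I.subscheme.Modules] {E F : X.Modules}
    (hE : FlatMod.IsFinLocFree E) (hF : FlatMod.IsFinLocFree F)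
    (h1 : Subsingleton (Ext.{u} ((pb I).obj E)
      (CohB1.tensorMod ((pb I).obj (ClSub.idealMod I)) ((pb I).obj F)) 1))
    (u₀ : (pb I).obj E ⟶ (pb I).obj F) : ∃ u : E ⟶ F, (pb I).map u = u₀ := by
  have := epi_η (I := I) hF
  let a : E ⟶ (ps I).obj ((pb I).obj F) := η I E ≫ (ps I).map u₀
  have hS := ExtSplit.pbSeq_shortExact (η I F) a
  let e := ExtSplit.pbKer (η I F) a
  have hext : Subsingleton (Ext.{u} ((pb I).obj E) ((pb I).obj (ExtSplit.pbSeq (η I F) a).X₁) 1) := by
    refine ExtSplit.subsingleton_ext_of_iso_right ?_ 1 h1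
    exact Ega2.Tens.swap _ _ ≪≫ (pbTensor F (ClSub.idealMod I)).symm ≪≫
      (pb I).mapIso ((kerη hF).symm ≪≫ e.symm)
  obtain ⟨s, hs⟩ := exists_section hS hE (killed_of_iso e.symm (killed_kerη hI hF)) hext
  obtain ⟨u, hu⟩ := ExtSplit.exists_lift_of_section (η I F) a s hs
  refine ⟨u, pb_hom_ext ?_⟩
  rw [η_naturality, hu]

theorem comp_η_eq_zero {M N : X.Modules} {a : M ⟶ N} (h : (pb I).map a = 0) : a ≫ η I N = 0 := by
  rw [← η_naturality, h]
  exact (congrArg (η I M ≫ ·) (Functor.map_zero (ps I) _ _)).trans comp_zero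

theorem comp_eq_zero_of_killed {M N K : X.Modules} {a : M ⟶ N} (h : a ≫ η I N = 0)
    (hK : ClSub.KilledByIdeal I K) (φ : N ⟶ K) : a ≫ φ = 0 := by
  have hm : Mono (η I K) := @IsIso.mono_of_iso _ _ _ _ (η I K) (isIso_η hK)
  have h1 : φ ≫ η I K = η I N ≫ (ps I).map ((pb I).map φ) := (η_naturality φ).symm
  have h2 : (a ≫ φ) ≫ η I K = 0 := by
    rw [Category.assoc, h1, reassoc_of% h, zero_comp]
  exact hm.right_cancellation _ _ (h2.trans zero_comp.symm)

/-- Two morphisms which vanish modulo `I` have composite `0`. -/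
theorem comp_eq_zero (hI : I ^ 2 = ⊥) {M N P : X.Modules} (hP : FlatMod.IsFinLocFree P) {a : M ⟶ N} {b : N ⟶ P}
    (ha : (pb I).map a = 0) (hb : (pb I).map b = 0) : a ≫ b = 0 := by
  have h1 := comp_eq_zero_of_killed (comp_η_eq_zero ha) (killed_kerη hI hP)
    (kernel.lift (η I P) b (comp_η_eq_zero hb))
  have h2 : b = kernel.lift (η I P) b (comp_η_eq_zero hb) ≫ kernel.ι _ := (kernel.lift_ι _ _ _).symm
  rw [h2, reassoc_of% h1, zero_comp]

/-- An endomorphism of a finite locally free module congruent to the identity is an isomorphism. -/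
theorem isIso_of_map_eq_id (hI : I ^ 2 = ⊥) {P : X.Modules} (hP : FlatMod.IsFinLocFree P) {f : P ⟶ P}
    (h : (pb I).map f = 𝟙 _) : IsIso f := by
  have h1 : (pb I).map (f - 𝟙 P) = 0 := by
    rw [Functor.map_sub, h]
    exact sub_eq_zero.2 (CategoryTheory.Functor.map_id _ _).symm
  have h2 : (f - 𝟙 P) ≫ (f - 𝟙 P) = 0 := comp_eq_zero hI hP h1 h1
  rw [Preadditive.sub_comp, Preadditive.comp_sub, Preadditive.comp_sub, Category.id_comp, Category.comp_id,
    Category.id_comp] at h2
  have h3 : f ≫ f = f + f - 𝟙 P := by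
    have h4 := sub_eq_zero.1 h2
    have h5 := eq_add_of_sub_eq h4
    rw [h5]
    abel
  refine ⟨𝟙 P + 𝟙 P - f, ?_, ?_⟩
  · rw [Preadditive.comp_sub, Preadditive.comp_add, Category.comp_id, h3]
    abel
  · rw [Preadditive.sub_comp, Preadditive.add_comp, Category.id_comp, h3]
    abel

/-- Morphisms of finite locally free modules which are isomorphisms modulo `I`. -/
theorem isIso_of_lifts (hI : I ^ 2 = ⊥) {E F : X.Modules}
    (hE : FlatMod.IsFinLocFree E) (hF : FlatMod.IsFinLocFree F) (u : E ⟶ F) (v : F ⟶ E)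
    (h1 : (pb I).map (u ≫ v) = 𝟙 _) (h2 : (pb I).map (v ≫ u) = 𝟙 _) : IsIso u := by
  have i1 := isIso_of_map_eq_id hI hE h1
  have i2 := isIso_of_map_eq_id hI hF h2
  have m1 : Mono u := mono_of_mono u v
  have e1 : Epi u := epi_of_epi v u
  exact isIso_of_mono_of_epi u

end K695.SqZero
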