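import Groth.Agent.Fdesc.LocGen
import Mathlib.Algebra.Category.ModuleCat.Presheaf.Submodule
import Mathlib.Topology.Sheaves.SheafCondition.UniqueGluing

/-!
# Subsheaves of modules given by a local predicate on sections
-/

set_option autoImplicit false
universe u
open CategoryTheory CategoryTheory.Limits AlgebraicGeometry Opposite TopologicalSpace

namespace K695.SubSh

open Groth.Agent.Fdesc.LocGen

variable {X : Scheme.{u}}

/-- A local, linear predicate on the sections of `N`. -/
structure LocPred (N : X.Modules) where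
  /-- the predicate -/
  P : ∀ V : X.Opens, Γ(N, V) → Prop
  zero : ∀ V, P V 0
  add : ∀ {V : X.Opens} {s t : Γ(N, V)}, P V s → P V t → P V (s + t)
  smul : ∀ {V : X.Opens} (r : Γ(X, V)) {s : Γ(N, V)}, P V s → P V (r • s)
  map : ∀ {V W : X.Opens} (h : W ≤ V) {s : Γ(N, V)}, P V s → P W (res N h s)
  loc : ∀ {V : X.Opens} {s : Γ(N, V)}, (∀ x ∈ V, ∃ (W : X.Opens) (h : W ≤ V), x ∈ W ∧ P W (res N h s)) → P V s

variable {N : X.Modules} (L : LocPred N)

/-- The subpresheaf of modules. -/
noncomputable def sub : N.val.Submodule where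
  obj V :=
    { carrier := {s | L.P V.unop s}
      add_mem' := fun hs ht => L.add hs ht
      zero_mem' := L.zero V.unop
      smul_mem' := fun r _ hs => L.smul r hs }
  map {_ _} f _ hs := L.map (leOfHom f.unop) hs

theorem isSheaf_sub :
    TopCat.Presheaf.IsSheaf (X := X.toTopCat) (sub L).toPresheafOfModules.presheaf := by
  rw [TopCat.Presheaf.isSheaf_iff_isSheafUniqueGluing]
  intro ι V sf hsf
  have hc : TopCat.Presheaf.IsCompatible N.presheaf V (fun i => (sf i).1) := by
    intro i j
    exact congr_arg Subtype.val (hsf i j)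
  obtain ⟨s, hs, hs'⟩ := N.isSheaf.isSheafUniqueGluing V (fun i => (sf i).1) hc
  refine ⟨⟨s, L.loc fun x hx => ?_⟩, fun i => ?_, fun t ht => ?_⟩
  · obtain ⟨i, hi⟩ := Opens.mem_iSup.1 hx
    refine ⟨V i, le_iSup V i, hi, ?_⟩
    have h1 : res N (le_iSup V i) s = (sf i).1 := hs i
    rw [h1]
    exact (sf i).2
  · exact Subtype.ext (hs i)
  · exact Subtype.ext (hs' _ (fun i => congr_arg Subtype.val (ht i)))

/-- The subsheaf of modules. -/
noncomputable def mod : X.Modules where
  val := (sub L).toPresheafOfModules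
  isSheaf := isSheaf_sub L

/-- The inclusion. -/
noncomputable def incl : mod L ⟶ N :=
  Scheme.Modules.fullyFaithfulToPresheafOfModules.preimage (sub L).ι

theorem incl_app_injective (V : X.Opens) : Function.Injective ((incl L).app V) := fun _ _ h => Subtype.ext h

theorem incl_app_mem (V : X.Opens) (s : Γ(mod L, V)) : L.P V ((incl L).app V s) := s.2

theorem exists_incl_app {V : X.Opens} {s : Γ(N, V)} (hs : L.P V s) :
    ∃ t : Γ(mod L, V), (incl L).app V t = s := ⟨⟨s, hs⟩, rfl⟩

variable {L} in
/-- A morphism with values in the subsheaf factors. -/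
noncomputable def lift {M : X.Modules} (φ : M ⟶ N) (h : ∀ (V : X.Opens) (s : Γ(M, V)), L.P V (φ.app V s)) :
    M ⟶ mod L :=
  Scheme.Modules.fullyFaithfulToPresheafOfModules.preimage
    { app := fun V => ModuleCat.ofHom
        (LinearMap.codRestrict ((sub L).obj V) (φ.val.app V).hom (fun s => h V.unop s))
      naturality := fun {V W} i => by
        ext s
        exact Subtype.ext (congr($(φ.val.naturality i) s)) }

variable {L} in
@[reassoc (attr := simp)]
theorem lift_incl {M : X.Modules} (φ : M ⟶ N) (h : ∀ (V : X.Opens) (s : Γ(M, V)), L.P V (φ.app V s)) :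
    lift φ h ≫ incl L = φ := by
  ext V s
  rfl

instance mono_incl : Mono (incl L) := by
  refine ⟨fun {M} a b hab => ?_⟩
  ext V s
  apply incl_app_injective L V
  exact congr($(congr_arg (fun z : M ⟶ N => z.app V) hab) s)

end K695.SubSh
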